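import Cfsg.Agent.Omega.IId.ThmCQ.Cnt
import Cfsg.Agent.Omega.ThmC.FourFix

/-!
# THEOREM C with `D`, case `q ≥ 4`: from the data in `G` to the data in `N_G(E) / C_G(E)`

* `DatD.abs` : the data `AbsD` for the image of `N_G(E)` in `MulAut E`, `E = Ω₁ Z(L)` (after helper334's
  `ThmC/FourFix.lean`);
* `DatD.main'` : 2-subgroups `W i` of `G` which are permuted by `N_G(E)` like the `Z i` centralise `E`;
* `DatD.main` : **`O₂(N_G(Z i))` centralises `E`**.
-/

set_option autoImplicit false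
set_option linter.unusedSectionVars false

namespace Cfsg.Agent.Omega.IId.ThmCQ

open Subgroup Cfsg Cfsg.Agent.ZN Cfsg.Agent.Omega.ThmC.Four
open Cfsg.Agent.MinSimple.VModule (mem_zc zc_le zc_comm zc_sq normalizer_le_normalizer_zc le_centralizer_zc
  zc_le_centralizer)
open Cfsg.Agent.Omega.ThmC.Four.Dat (phi NN phi_apply cl_surj cl_eq commE rho rho_apply ad mem_ad)

universe u

variable {G : Type u} [Group G] [Finite G]

attribute [local instance] commE

namespace DatD

variable {S : Sylow 2 G} {L : Subgroup G} {k : ℕ} {Z : Fin k → Subgroup G} {h : Fin k → G} {p : ℕ}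
  (D : DatD S L Z h p)

include D

theorem S_le : (S : Subgroup G) ≤ normalizer (zc L : Set G) := D.nor.trans (normalizer_le_normalizer_zc L)

theorem h_mem (l : Fin k) : h l ∈ normalizer (zc L : Set G) := normalizer_le_normalizer_zc L (D.hL l)

/-- the image of `h l`. -/
noncomputable abbrev hh (D : DatD S L Z h p) (l : Fin k) : NN (zc L) := (phi (zc L)).rangeRestrict ⟨h l, D.h_mem l⟩

/-- the image of `S`. -/
noncomputable abbrev SS (D : DatD S L Z h p) : Sylow 2 (NN (zc L)) :=
  haveI : Fact (Nat.Prime 2) := ⟨Nat.prime_two⟩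
  (S.subtype D.S_le).mapSurjective (cl_surj (zc L))

theorem mem_SS {n : NN (zc L)} : n ∈ (D.SS : Subgroup (NN (zc L))) ↔
    ∃ s, ∃ hs : s ∈ (S : Subgroup G), (phi (zc L)).rangeRestrict ⟨s, D.S_le hs⟩ = n := by
  constructor
  · rintro ⟨s, hs, rfl⟩
    exact ⟨s, hs, rfl⟩
  · rintro ⟨s, hs, rfl⟩
    exact ⟨⟨s, D.S_le hs⟩, hs, rfl⟩

/-- **the data in `N_G(E) / C_G(E)`** -/
theorem abs : AbsD (rho L) D.SS D.hh (fun l => ad L (Z l)) p where
  two a := by
    apply Additive.toMul.injective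
    apply Subtype.ext
    have h1 := zc_sq L _ (Additive.toMul a).2
    rw [pow_two] at h1
    exact h1
  inj := by
    intro a b hab
    apply Subtype.ext
    apply MulEquiv.ext
    intro e
    exact congrArg (fun f : AddMonoid.End (Additive (zc L)) => Additive.toMul (f (Additive.ofMul e))) hab
  prime := D.prime
  odd := D.odd
  hcomm l m := by
    rw [← map_mul, ← map_mul, cl_eq]
    exact D.hcomm l m
  hp l := by
    rw [← map_pow, ← map_one (phi (zc L)).rangeRestrict, cl_eq]
    exact D.hp l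
  perm := by
    intro s hs'
    obtain ⟨s, hs, rfl⟩ := D.mem_SS.1 hs'
    obtain ⟨σ, hσ⟩ := D.perm s hs
    refine ⟨σ, fun l => ?_⟩
    obtain ⟨r, hr⟩ := hσ l
    refine ⟨r, ?_⟩
    rw [← map_mul, ← map_inv, ← map_mul, ← map_pow, cl_eq]
    exact hr
  field := by
    intro s hs' hc
    obtain ⟨s, hs, rfl⟩ := D.mem_SS.1 hs'
    have h1 : s ∈ L := D.field s hs fun l => by
      have := hc l
      rw [← map_mul, ← map_mul, cl_eq] at this
      exact this
    rw [← map_one (phi (zc L)).rangeRestrict, cl_eq]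
    intro e he
    have h2 := (mem_zc.1 he).2.1 s h1
    simp [h2]
  Zne l hl := by
    apply D.Zne l
    rw [eq_bot_iff]
    intro z hz
    have h1 : Additive.ofMul (⟨z, D.ZE l hz⟩ : zc L) ∈ ad L (Z l) := hz
    rw [hl, AddSubgroup.mem_bot] at h1
    have h2 := congrArg (fun a : Additive (zc L) => ((Additive.toMul a : zc L) : G)) h1
    exact h2
  Znor l z hz := by
    rw [mem_ad] at hz ⊢
    exact ((mem_normalizer_iff.1 (D.Znor l)) _).1 hz
  Zfpf l z hz hfix := by
    apply Additive.toMul.injective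
    apply Subtype.ext
    refine D.Zfpf l _ hz ?_
    have h1 := congrArg (fun a : Additive (zc L) => ((Additive.toMul a : zc L) : G)) hfix
    have h2 : h l * ((Additive.toMul z : zc L) : G) * (h l)⁻¹ = ((Additive.toMul z : zc L) : G) := h1
    rw [← h2]
    simp only [h2]
    rw [mul_inv_eq_iff_eq_mul] at h2
    exact h2
  Zcent l m hlm z hz := by
    apply Additive.toMul.injective
    apply Subtype.ext
    have h1 : h m * ((Additive.toMul z : zc L) : G) = ((Additive.toMul z : zc L) : G) * h m := D.Zcent l m hlm _ hz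
    change h m * ((Additive.toMul z : zc L) : G) * (h m)⁻¹ = ((Additive.toMul z : zc L) : G)
    rw [h1, mul_inv_cancel_right]
  fix a ha := by
    have h1 : ((Additive.toMul a : zc L) : G) ∈ zc (S : Subgroup G) := by
      refine mem_zc.2 ⟨D.LS (zc_le L (Additive.toMul a).2), fun s hs => ?_, zc_sq L _ (Additive.toMul a).2⟩
      have h2 := ha _ (D.mem_SS.2 ⟨s, hs, rfl⟩)
      have h3 := congrArg (fun a : Additive (zc L) => ((Additive.toMul a : zc L) : G)) h2
      have h4 : s * ((Additive.toMul a : zc L) : G) * s⁻¹ = ((Additive.toMul a : zc L) : G) := h3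
      rw [mul_inv_eq_iff_eq_mul] at h4
      exact h4
    obtain ⟨x, hx, hxh, w, hw, hxw⟩ := D.fix _ h1
    have h3 : (⨆ l, Z l) ≤ (AddSubgroup.toSubgroup' (⨆ l, ad L (Z l))).map (zc L).subtype := by
      refine iSup_le fun l z hz => ?_
      exact ⟨⟨z, D.ZE l hz⟩, (le_iSup (fun l => ad L (Z l)) l) (show Additive.ofMul (⟨z, D.ZE l hz⟩ : zc L) ∈ _ from hz),
        rfl⟩
    obtain ⟨b, hb, hb'⟩ := h3 hw
    have h4 : a = Additive.ofMul (⟨x, hx⟩ : zc L) + Additive.ofMul b := by
      apply Additive.toMul.injective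
      apply Subtype.ext
      change ((Additive.toMul a : zc L) : G) = x * (b : G)
      rw [hxw]
      congr 1
      exact hb'.symm
    rw [h4]
    refine add_mem (AddSubgroup.mem_sup_left ?_) (AddSubgroup.mem_sup_right hb)
    intro l
    apply Additive.toMul.injective
    apply Subtype.ext
    change h l * x * (h l)⁻¹ = x
    rw [hxh l, mul_inv_cancel_right]

theorem h_nor (l i : Fin k) : h l ∈ normalizer (Z i : Set G) := by
  by_cases hli : i = l
  · rw [hli]
    exact D.Znor l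
  · rw [mem_normalizer_iff]
    intro z
    constructor
    · intro hz
      rw [D.Zcent i l hli z hz, mul_inv_cancel_right]
      exact hz
    · intro hz
      have h1 := D.Zcent i l hli _ hz
      have h2 : h l * z * (h l)⁻¹ = z := by
        have h3 : h l * (h l * z * (h l)⁻¹) = h l * z := by rw [h1]; group
        exact mul_left_cancel h3
      rwa [h2] at hz

/-- **THEOREM C with `D`, case `q ≥ 4`, on the data**: 2-subgroups `W i` which are permuted by `N_G(E)` like the `Z i`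
centralise `E = Ω₁ Z(L)`. -/
theorem main' {W : Fin k → Subgroup G} (hW : ∀ i, IsPGroup 2 (W i))
    (hc : ∀ g ∈ normalizer (zc L : Set G), ∀ i j, (∀ v, v ∈ Z i ↔ g * v * g⁻¹ ∈ Z j) →
      ∀ w, w ∈ W i ↔ g * w * g⁻¹ ∈ W j) (i : Fin k) : W i ≤ centralizer (zc L : Set G) := by
  -- the images of the `N_{W i}(E)`
  set WW : Fin k → Subgroup (NN (zc L)) := fun i =>
    ((W i).subgroupOf (normalizer (zc L : Set G))).map (phi (zc L)).rangeRestrict with hWW
  have hLC : L ≤ centralizer (zc L : Set G) := le_centralizer_zc L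
  have hLE : L ≤ normalizer (zc L : Set G) := hLC.trans (centralizer_le_normalizer _)
  -- maps
  have hmap : ∀ {g : G} (hg : g ∈ normalizer (zc L : Set G)) {i j : Fin k},
      MapZ (rho L) (fun l => ad L (Z l)) ((phi (zc L)).rangeRestrict ⟨g, hg⟩) i j ↔
        ∀ v, v ∈ Z i ↔ g * v * g⁻¹ ∈ Z j := by
    intro g hg i j
    constructor
    · intro hm v
      constructor
      · intro hv
        exact (hm (Additive.ofMul ⟨v, D.ZE i hv⟩)).1 hv
      · intro hv
        have h1 : v ∈ zc L := (mem_normalizer_iff.1 hg v).2 (D.ZE j hv)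
        exact (hm (Additive.ofMul ⟨v, h1⟩)).2 hv
    · intro hm a
      exact hm ((Additive.toMul a : zc L) : G)
  have hcj : ∀ {g : G} (hg : g ∈ normalizer (zc L : Set G)) {i j : Fin k}, (∀ v, v ∈ Z i ↔ g * v * g⁻¹ ∈ Z j) →
      ∀ n, n ∈ WW i ↔ (phi (zc L)).rangeRestrict ⟨g, hg⟩ * n * ((phi (zc L)).rangeRestrict ⟨g, hg⟩)⁻¹ ∈ WW j := by
    have key : ∀ {g : G} (hg : g ∈ normalizer (zc L : Set G)) {i j : Fin k}, (∀ v, v ∈ Z i ↔ g * v * g⁻¹ ∈ Z j) →
        ∀ n, n ∈ WW i → (phi (zc L)).rangeRestrict ⟨g, hg⟩ * n * ((phi (zc L)).rangeRestrict ⟨g, hg⟩)⁻¹ ∈ WW j := by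
      rintro g hg i j hm _ ⟨v, hv, rfl⟩
      rw [← map_inv, ← map_mul, ← map_mul]
      exact mem_map_of_mem _ ((hc g hg i j hm v).1 hv)
    intro g hg i j hm n
    refine ⟨key hg hm n, fun hn => ?_⟩
    have hm' : ∀ v, v ∈ Z j ↔ g⁻¹ * v * g⁻¹⁻¹ ∈ Z i := by
      intro v
      rw [hm]
      have e : g * (g⁻¹ * v * g⁻¹⁻¹) * g⁻¹ = v := by group
      rw [e]
    have h1 := key (inv_mem hg) hm' _ hn
    have h2 : (phi (zc L)).rangeRestrict ⟨g⁻¹, inv_mem hg⟩ = ((phi (zc L)).rangeRestrict ⟨g, hg⟩)⁻¹ := by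
      rw [← map_inv]; rfl
    rw [h2] at h1
    have e : ((phi (zc L)).rangeRestrict ⟨g, hg⟩)⁻¹ * ((phi (zc L)).rangeRestrict ⟨g, hg⟩ * n *
      ((phi (zc L)).rangeRestrict ⟨g, hg⟩)⁻¹) * ((phi (zc L)).rangeRestrict ⟨g, hg⟩)⁻¹⁻¹ = n := by group
    rwa [e] at h1
  have F : Fam (rho L) D.SS D.hh (fun l => ad L (Z l)) p WW := by
    refine ⟨D.abs, fun i => ((hW i).comap_of_injective _ (subtype_injective _)).map _, ?_, ?_, ?_, ?_, ?_⟩
    · intro s hs' i
      obtain ⟨s, hs, rfl⟩ := D.mem_SS.1 hs'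
      obtain ⟨m, hm⟩ := D.Zperm s hs i
      exact ⟨m, (hmap _).2 hm⟩
    · intro i j
      obtain ⟨s, hs, hm⟩ := D.trans i j
      exact ⟨_, D.mem_SS.2 ⟨s, hs, rfl⟩, (hmap _).2 hm⟩
    · intro s hs' i j hm
      obtain ⟨s, hs, rfl⟩ := D.mem_SS.1 hs'
      exact hcj _ ((hmap _).1 hm)
    · intro l i
      rw [mem_normalizer_iff]
      exact hcj _ (mem_normalizer_iff.1 (D.h_nor l i))
    · intro i a u hu _ htriv c hca
      have hu' := hu
      obtain ⟨⟨v, hvE⟩, hv, rfl⟩ := hu'
      rw [mem_normalizer_iff]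
      have h1 : ∀ z ∈ ad L (Z c), rho L ((phi (zc L)).rangeRestrict ⟨v, hvE⟩) z = z := by
        intro z hz
        have := htriv c hca z
        rwa [D.abs.eps_Z hz] at this
      refine hcj hvE ((hmap hvE).1 ?_)
      intro z
      constructor
      · intro hz
        rw [h1 z hz]
        exact hz
      · intro hz
        have h2 := h1 _ hz
        have h3 : rho L ((phi (zc L)).rangeRestrict ⟨v, hvE⟩) z = z := rho_inj h2
        rwa [h3] at hz
  -- `WW i = 1`
  have hbot := F.bot i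
  by_contra hcon
  have hL2 : IsPGroup 2 L := S.isPGroup'.to_le D.LS
  have hLW : L ≤ normalizer (W i : Set G) := by
    intro x hx
    rw [mem_normalizer_iff]
    refine hc x (hLE hx) i i fun v => ?_
    have h1 : x ∈ centralizer (Z i : Set G) := centralizer_le (D.ZE i) (hLC hx)
    exact (mem_normalizer_iff.1 (centralizer_le_normalizer _ h1)) v
  have hWL : IsPGroup 2 (W i ⊔ L : Subgroup G) := IsPGroup.to_sup_of_normal_left' (hW i) hL2 hLW
  set K : Subgroup G := W i ⊓ centralizer (zc L : Set G) with hK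
  have hKL : K ⊔ L < W i ⊔ L := by
    refine lt_of_le_of_ne (sup_le_sup_right inf_le_left L) fun he => hcon ?_
    have h1 : K ⊔ L ≤ centralizer (zc L : Set G) := sup_le inf_le_right hLC
    exact (le_sup_left.trans he.ge).trans h1
  obtain ⟨x, hx, hxK, hxn⟩ := exists_grow hWL hKL
  obtain ⟨w, hw, l, hl, rfl⟩ : ∃ w ∈ W i, ∃ l ∈ L, w * l = x := by
    have h1 : x ∈ ((W i ⊔ L : Subgroup G) : Set G) := hx
    rw [coe_mul_of_right_le_normalizer_left (W i) L hLW] at h1
    obtain ⟨a, ha, b, hb, hab⟩ := h1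
    exact ⟨a, ha, b, hb, hab⟩
  have hln : l ∈ normalizer ((K ⊔ L : Subgroup G) : Set G) := le_normalizer (mem_sup_right hl)
  have hwn : w ∈ normalizer ((K ⊔ L : Subgroup G) : Set G) := by
    have := mul_mem hxn (inv_mem hln)
    rwa [mul_inv_cancel_right] at this
  have hwK : w ∉ centralizer (zc L : Set G) := by
    intro hwc
    exact hxK (mul_mem (mem_sup_left ⟨hw, hwc⟩) (mem_sup_right hl))
  have hzc : zc (K ⊔ L) = zc L := by
    apply le_antisymm
    · intro e he
      have h1 := mem_zc.1 he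
      have h2 : e ∈ L := D.cL (mem_centralizer_iff.2 fun y hy => h1.2.1 y (mem_sup_right hy))
      exact mem_zc.2 ⟨h2, fun b hb => h1.2.1 b (mem_sup_right hb), h1.2.2⟩
    · intro e he
      have h1 := mem_zc.1 he
      refine mem_zc.2 ⟨mem_sup_right h1.1, fun b hb => ?_, h1.2.2⟩
      have h2 : b ∈ centralizer (zc L : Set G) := (sup_le inf_le_right hLC : K ⊔ L ≤ _) hb
      exact (mem_centralizer_iff.1 h2 e he).symm
  have hwE : w ∈ normalizer (zc L : Set G) := by
    have := normalizer_le_normalizer_zc _ hwn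
    rwa [hzc] at this
  apply hwK
  have h1 : (phi (zc L)).rangeRestrict ⟨w, hwE⟩ ∈ WW i := mem_map_of_mem _ (show w ∈ W i from hw)
  rw [hbot, mem_bot, ← map_one (phi (zc L)).rangeRestrict, cl_eq] at h1
  rw [mem_centralizer_iff]
  intro e he
  have h2 := h1 e he
  simp only [OneMemClass.coe_one, one_mul, inv_one, mul_one] at h2
  rw [mul_inv_eq_iff_eq_mul] at h2
  exact h2.symm

omit D in
theorem o2_conj {X Y : Subgroup G} {g : G} (hg : ∀ v, v ∈ X ↔ g * v * g⁻¹ ∈ Y) (w : G) :
    w ∈ o2 (normalizer (X : Set G)) ↔ g * w * g⁻¹ ∈ o2 (normalizer (Y : Set G)) := by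
  have h1 : ChoiceBase.cj g X = Y := by
    ext y
    rw [ChoiceBase.mem_cj, hg]
    have e : g * (g⁻¹ * y * g) * g⁻¹ = y := by group
    rw [e]
  rw [← h1, ← ChoiceBase.cj_normalizer, ChoiceBase.pCore_cj, ChoiceBase.mem_cj]
  have e : g⁻¹ * (g * w * g⁻¹) * g = w := by group
  rw [e]

/-- **THEOREM C with `D`, case `q ≥ 4`, on the data.** -/
theorem main (i : Fin k) : o2 (normalizer (Z i : Set G)) ≤ centralizer (zc L : Set G) :=
  D.main' (W := fun i => o2 (normalizer (Z i : Set G))) (fun _ => MinSimple.VModule.o2_isPGroup _)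
    (fun _ _ _ _ hm w => o2_conj hm w) i

end DatD

end Cfsg.Agent.Omega.IId.ThmCQ
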