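import Cfsg.Agent.Omega.ThmC.FourTwo

/-!
# THEOREM C with `D = C_V(O²(P))`, case `q ≥ 4` (bb OMEGA #19922, helper399; #20115, helper914): the data

* `DatD S L Z h p` : the situation in `G` (`L = S^L`, `E = Ω₁ Z(L)`, `Z l = Z_l`, `h l = h_l`); it is
  `ThmC.Four.Dat` with a weaker condition on `Ω₁ Z(S)`.
* `AbsD ρ S h Z p` : the situation in the group `N = N_G(E) / C_G(E)` acting faithfully on `E` (written additively).
-/

set_option autoImplicit false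

namespace Cfsg.Agent.Omega.IId.ThmCQ

open Subgroup Cfsg Cfsg.Agent.ZN Cfsg.Agent.Omega.ThmC.Four

universe u

/-- The data of THEOREM C with `D`, case `q ≥ 4`. `L = S^L`, `E = Ω₁ Z(L)`. -/
structure DatD {G : Type u} [Group G] [Finite G] (S : Sylow 2 G) (L : Subgroup G) {k : ℕ}
    (Z : Fin k → Subgroup G) (h : Fin k → G) (p : ℕ) : Prop where
  prime : p.Prime
  odd : p ≠ 2
  LS : L ≤ S
  nor : (S : Subgroup G) ≤ normalizer (L : Set G)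
  cL : centralizer (L : Set G) ≤ L
  hL : ∀ l, h l ∈ normalizer (L : Set G)
  /-- the `h l` commute and have order `p` modulo `C(E)` -/
  hcomm : ∀ l m, Act (zc L) (h l * h m) (h m * h l)
  hp : ∀ l, Act (zc L) (h l ^ p) 1
  /-- `S` permutes the `⟨h l⟩` modulo `C(E)` -/
  perm : ∀ s ∈ (S : Subgroup G), ∃ σ : Equiv.Perm (Fin k), ∀ l, ∃ r : ℕ,
    Act (zc L) (s * h l * s⁻¹) (h (σ l) ^ r)
  /-- `C_S(D^) = L` (modulo `C(E)`) -/
  field : ∀ s ∈ (S : Subgroup G), (∀ l, Act (zc L) (s * h l) (h l * s)) → s ∈ L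
  ZE : ∀ l, Z l ≤ zc L
  Zne : ∀ l, Z l ≠ ⊥
  Znor : ∀ l, h l ∈ normalizer (Z l : Set G)
  Zfpf : ∀ l, ∀ z ∈ Z l, h l * z = z * h l → z = 1
  Zcent : ∀ l m, l ≠ m → ∀ z ∈ Z l, h m * z = z * h m
  /-- `S` permutes the `Z l` -/
  Zperm : ∀ s ∈ (S : Subgroup G), ∀ l, ∃ m, ∀ v, v ∈ Z l ↔ s * v * s⁻¹ ∈ Z m
  /-- `S` is transitive on the `Z l` -/
  trans : ∀ l m, ∃ s ∈ (S : Subgroup G), ∀ v, v ∈ Z l ↔ s * v * s⁻¹ ∈ Z m
  /-- `C_E(S) ≤ C_E(D^) (∑ Z l)` -/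
  fix : ∀ z ∈ zc (S : Subgroup G), ∃ d ∈ zc L, (∀ l, h l * d = d * h l) ∧ ∃ w ∈ ⨆ l, Z l, z = d * w

/-- `C_A(D^)` -/
def C0 {N A : Type u} [Group N] [AddCommGroup A] (ρ : N →* AddMonoid.End A) {k : ℕ} (h : Fin k → N) : AddSubgroup A where
  carrier := {a | ∀ l, ρ (h l) a = a}
  zero_mem' l := map_zero _
  add_mem' ha hb l := by rw [map_add, ha l, hb l]
  neg_mem' ha l := by rw [map_neg, ha l]

theorem mem_C0 {N A : Type u} [Group N] [AddCommGroup A] {ρ : N →* AddMonoid.End A} {k : ℕ} {h : Fin k → N} {a : A} :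
    a ∈ C0 ρ h ↔ ∀ l, ρ (h l) a = a := Iff.rfl

/-- The data of THEOREM C with `D`, case `q ≥ 4`, in `N = N_G(E) / C_G(E)` (any finite group), acting faithfully on
`A = E` (written additively) by `ρ`. -/
structure AbsD {N A : Type u} [Group N] [Finite N] [AddCommGroup A] [Finite A] (ρ : N →* AddMonoid.End A)
    (S : Sylow 2 N) {k : ℕ} (h : Fin k → N) (Z : Fin k → AddSubgroup A) (p : ℕ) : Prop where
  two : ∀ a : A, a + a = 0
  inj : Function.Injective ρ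
  prime : p.Prime
  odd : p ≠ 2
  hcomm : ∀ l m, h l * h m = h m * h l
  hp : ∀ l, h l ^ p = 1
  perm : ∀ s ∈ (S : Subgroup N), ∃ σ : Equiv.Perm (Fin k), ∀ l, ∃ r : ℕ, s * h l * s⁻¹ = h (σ l) ^ r
  field : ∀ s ∈ (S : Subgroup N), (∀ l, s * h l = h l * s) → s = 1
  Zne : ∀ l, Z l ≠ ⊥
  Znor : ∀ l, ∀ z ∈ Z l, ρ (h l) z ∈ Z l
  Zfpf : ∀ l, ∀ z ∈ Z l, ρ (h l) z = z → z = 0
  Zcent : ∀ l m, l ≠ m → ∀ z ∈ Z l, ρ (h m) z = z
  fix : ∀ a : A, (∀ s ∈ (S : Subgroup N), ρ s a = a) → a ∈ C0 ρ h ⊔ ⨆ l, Z l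

end Cfsg.Agent.Omega.IId.ThmCQ
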