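import Cfsg.Agent.Omega.IId.ThmCQ.SpField
import Cfsg.Agent.Omega.IId.ThmCQ.Dat

/-!
# THEOREM C with `D`, `q ≥ 4`, `V_P = V × D`: the data `DatD` (helper732)

`M : NatD F S P V D k`, `4 ≤ |F|`: `exists_tor` gives `h : Fin k → G`, a prime `p` and `Tor M t p h`;
`Tor.dat : DatD S (LS M) (line M) h p`. The same proofs as in `ThmC/FourMk.lean` (helper334).
`ccD_of`: the consequences of `DatD.main`.
-/

set_option autoImplicit false
set_option linter.unusedSectionVars false

namespace Cfsg.Agent.Omega.IId.ThmCQ.Sp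

open Subgroup Cfsg Cfsg.Agent.ZN Cfsg.Agent.Omega.IId Cfsg.Agent.Omega.ThmC.Four
open Cfsg.Agent.ZN.ChoiceBase hiding mem_zc
open Cfsg.Agent.Omega.MinPar Cfsg.Agent.Omega.FFThm
open Cfsg.Agent.MinSimple.VModule (le_normalizer_zl mem_zc zc_le zc_le_zl)
open Cfsg.Agent.Lib.SL2Mat
open Cfsg.Agent.Omega.NatPair (ap ap_mul ap_one ap_inv_ap ap_ap_inv exists_ap ap_add ap_inj ap_smul)
open Cfsg.Agent.Omega.ThmC (exists_t)
open Cfsg.Agent.Omega.ThmC.FourOf (eq_one_of_pow dg_pow ap_pow_tri conj_mem_cj' mem_norm_of_le tri_eq)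

universe u

variable {G : Type u} [Group G] [Finite G] {F : Type} [Field F] [Finite F] [CharP F 2] {S : Sylow 2 G}
  {P V D : Subgroup G} {k : ℕ}

/-- The torus elements. -/
structure Tor (M : NatD F S P V D k) (t : F) (p : ℕ) (h : Fin k → G) : Prop where
  prime : p.Prime
  odd : p ≠ 2
  ne_one : t ≠ 1
  pow : t ^ p = 1
  ne_zero : t ≠ 0
  field : ∀ (τ : F ≃+* F) (n : ℕ), τ ^ 2 ^ n = 1 → τ t = t → τ = 1
  mem : ∀ l, h l ∈ P
  nor : ∀ l, h l ∈ normalizer (LS M : Set G)
  act : ∀ l, ActsSL M.e V ⊥ (h l) (Function.update 1 l (dg t ne_zero))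

variable {M : NatD F S P V D k} {t : F} {p : ℕ} {h : Fin k → G}

theorem exists_tor (hF : 4 ≤ Nat.card F) :
    ∃ (t : F) (p : ℕ) (h : Fin k → G), Tor M t p h := by
  classical
  obtain ⟨p, t, hp, hp2, ht1, htp, hf⟩ := exists_t hF
  have ht0 : t ≠ 0 := by
    rintro rfl
    rw [zero_pow hp.ne_zero] at htp
    exact zero_ne_one htp
  have key : ∀ l : Fin k, ∃ g : G, g ∈ P ∧ g ∈ normalizer (LS M : Set G) ∧
      ActsSL M.e V ⊥ g (Function.update 1 l (dg t ht0)) := by
    intro l
    obtain ⟨g, hg, hgn, hga⟩ := exists_norm (M := M) (Function.update 1 l (dg t ht0)) fun i => by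
      by_cases hi : i = l
      · rw [hi, Function.update_self, dg_10]
      · rw [Function.update_of_ne hi, Pi.one_apply]
        simp
    exact ⟨g, hg, hgn, hga⟩
  choose h h1 h2 h3 using key
  exact ⟨t, p, h, ⟨hp, hp2, ht1, htp, ht0, hf, h1, h2, h3⟩⟩

namespace Tor

variable (T : Tor M t p h)

include T

theorem mem_grp (l : Fin k) : h l ∈ NV.grp M.toNatV {l} :=
  ⟨T.mem l, _, T.act l, fun _ hi => Function.update_of_ne hi _ _⟩

theorem e_line {l : Fin k} {v : G} (hv : v ∈ NV.line M.toNatV l) : M.e (h l * v * (h l)⁻¹) l = t • M.e v l := by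
  rw [(T.act l).1 v hv.1.1 l, Function.update_self]
  have h1 := ((NV.mem_line M.toNatV).1 hv).2
  apply NatPair.ext2
  · rw [NatPair.ap_zero', dg_00, dg_01, h1]; simp
  · rw [NatPair.ap_one', dg_10, dg_11, h1]; simp [h1]

theorem mem_nor (l m : Fin k) : h l ∈ normalizer (NV.line M.toNatV m : Set G) := by
  refine mem_norm_of_le fun v hv => ?_
  have h1 : h l * v * (h l)⁻¹ ∈ NV.fac M.toNatV m :=
    (mem_normalizer_iff.1 (NV.grp_normalizes M.toNatV {l} {m} (T.mem_grp l)) v).1 hv.1
  refine (NV.mem_line M.toNatV).2 ⟨h1, ?_⟩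
  rw [(T.act l).1 v hv.1.1 m]
  by_cases hm : m = l
  · subst hm
    rw [Function.update_self, NatPair.ap_one', dg_10, dg_11, ((NV.mem_line M.toNatV).1 hv).2]
    ring
  · rw [Function.update_of_ne hm, Pi.one_apply, ap_one]
    exact ((NV.mem_line M.toNatV).1 hv).2

theorem comm_fac {l m : Fin k} (hlm : l ≠ m) {v : G} (hv : v ∈ NV.fac M.toNatV l) : h m * v = v * h m :=
  NV.grp_comm M.toNatV (Set.disjoint_singleton.2 hlm.symm) (T.mem_grp m) hv

theorem fpf {l : Fin k} {v : G} (hv : v ∈ NV.line M.toNatV l) (hc : h l * v = v * h l) : v = 1 := by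
  have h1 := T.e_line hv
  have h2 : h l * v * (h l)⁻¹ = v := by rw [hc]; group
  rw [h2] at h1
  rw [← NV.fac_eq_one M.toNatV hv.1]
  apply NatPair.ext2
  · have h3 := congrFun h1 0
    simp only [Pi.smul_apply, smul_eq_mul] at h3
    have h4 : (t - 1) * M.e v l 0 = 0 := by linear_combination -h3
    rcases mul_eq_zero.1 h4 with h5 | h5
    · exact absurd (sub_eq_zero.1 h5) T.ne_one
    · exact h5
  · exact ((NV.mem_line M.toNatV).1 hv).2

end Tor

theorem exists_line (M : NatD F S P V D k) (i : Fin k) : ∃ z ∈ NV.line M.toNatV i, z ≠ 1 := by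
  obtain ⟨v, hv, h⟩ := NV.exists_fac M.toNatV i ![1, 0]
  refine ⟨v, (NV.mem_line M.toNatV).2 ⟨hv, by rw [h]; rfl⟩, fun h1 => ?_⟩
  rw [h1, NV.e_one] at h
  have := congrFun h 0
  simp at this

theorem lines_le_iSup (M : NatD F S P V D k) :
    NV.lines M.toNatV Set.univ ≤ ⨆ l, NV.line M.toNatV l := by
  classical
  have key : ∀ I : Finset (Fin k), NV.lines M.toNatV (I : Set (Fin k)) ≤ ⨆ l, NV.line M.toNatV l := by
    intro I
    induction I using Finset.induction_on with
    | empty =>
      intro v hv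
      have h1 : v = 1 := by
        rw [← NV.e_eq_zero M.toNatV hv.1.1]
        funext i
        exact hv.1.2 i (by simp)
      rw [h1]
      exact one_mem _
    | insert i I hi ih =>
      intro v hv
      obtain ⟨a, ha, hae, hav⟩ := NV.exists_component M.toNatV hv.1.1 i
      have h1 : a ∈ NV.line M.toNatV i := (NV.mem_line M.toNatV).2 ⟨ha, by rw [hae]; exact hv.2 i⟩
      have h2 : a⁻¹ * v ∈ NV.lines M.toNatV (I : Set (Fin k)) := by
        have e1 : ∀ j, M.e (a⁻¹ * v) j = - M.e a j + M.e v j := fun j => by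
          rw [M.mul _ (inv_mem ha.1) _ hv.1.1, NV.e_inv M.toNatV ha.1]
          rfl
        refine ⟨⟨mul_mem (inv_mem ha.1) hv.1.1, fun j hj => ?_⟩, fun j => ?_⟩
        · by_cases hji : j = i
          · rw [e1, hji, hae]; simp
          · rw [e1, ha.2 j hji, hv.1.2 j (by
              rw [Finset.coe_insert, Set.mem_insert_iff, not_or]
              exact ⟨hji, hj⟩)]
            simp
        · rw [e1, Pi.add_apply, Pi.neg_apply, h1.2 j, hv.2 j]
          simp
      have h3 : v = a * (a⁻¹ * v) := by group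
      rw [h3]
      exact mul_mem ((le_iSup (fun l => NV.line M.toNatV l) i) h1) (ih h2)
  have := key Finset.univ
  rwa [Finset.coe_univ] at this

/-- the data -/
theorem Tor.dat (T : Tor M t p h) :
    DatD S (LS M) (NV.line M.toNatV) h p where
  prime := T.prime
  odd := T.odd
  LS := LS_le
  nor := S_le_normalizer_LS
  cL := cent_LS
  hL := T.nor
  hcomm l m := by
    classical
    refine act_of_eq (M := M) (mul_mem (T.mem l) (T.mem m)) (mul_mem (T.nor l) (T.nor m))
      (mul_mem (T.mem m) (T.mem l)) (mul_mem (T.nor m) (T.nor l)) (NV.acts_mul (M := M.toNatV) (T.mem m) (T.act l) (T.act m)) ?_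
    have h1 := NV.acts_mul (M := M.toNatV) (T.mem l) (T.act m) (T.act l)
    have e : (Function.update (1 : Fin k → Matrix.SpecialLinearGroup (Fin 2) F) m (dg t T.ne_zero)) *
        (Function.update (1 : Fin k → Matrix.SpecialLinearGroup (Fin 2) F) l (dg t T.ne_zero)) =
        (Function.update (1 : Fin k → Matrix.SpecialLinearGroup (Fin 2) F) l (dg t T.ne_zero)) *
        (Function.update (1 : Fin k → Matrix.SpecialLinearGroup (Fin 2) F) m (dg t T.ne_zero)) := by
      by_cases hlm : l = m
      · rw [hlm]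
      funext i
      rw [Pi.mul_apply, Pi.mul_apply]
      by_cases hi : i = l
      · have him : i ≠ m := fun h => hlm (hi.symm.trans h)
        rw [Function.update_of_ne him, Pi.one_apply, one_mul, mul_one]
      · rw [Function.update_of_ne hi, Pi.one_apply, one_mul, mul_one]
    rwa [e] at h1
  hp l := by
    classical
    refine act_of_eq (M := M) (pow_mem (T.mem l) p) (pow_mem (T.nor l) p) (one_mem _) (one_mem _)
      (acts_pow (M := M.toNatV) (T.mem l) (T.act l) p) ?_
    have e : (Function.update 1 l (dg t T.ne_zero) : Fin k → Matrix.SpecialLinearGroup (Fin 2) F) ^ p = 1 := by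
      funext i
      rw [Pi.pow_apply, Pi.one_apply]
      by_cases hi : i = l
      · rw [hi, Function.update_self, dg_pow]
        apply ext_ent <;> simp [T.pow]
      · rw [Function.update_of_ne hi, Pi.one_apply, one_pow]
    rw [e]
    exact NV.acts_one M.toNatV
  perm s hs := by
    classical
    refine ⟨NV.sg M.toNatV (NV.SP M hs), fun l => ?_⟩
    have hx : s * h l * s⁻¹ ∈ NV.grp M.toNatV {NV.sg M.toNatV (NV.SP M hs) l} := by
      have h1 := NV.conj_grp M.toNatV (NV.SP M hs) {l}
      rw [Set.image_singleton] at h1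
      rw [← h1]
      exact conj_mem_cj' (T.mem_grp l)
    have hxN : s * h l * s⁻¹ ∈ normalizer (LS M : Set G) :=
      mul_mem (mul_mem (S_le_normalizer_LS hs) (T.nor l)) (inv_mem (S_le_normalizer_LS hs))
    set m := NV.sg M.toNatV (NV.SP M hs) l with hm
    set x := s * h l * s⁻¹ with hxdef
    obtain ⟨hxP, A, hA, hA1⟩ := hx
    have htri := tri_of_norm hxP hxN hA m
    have hAp : A ^ p = 1 := by
      have h1 := acts_pow (M := M.toNatV) hxP hA p
      have h2 : h l ^ p ∈ centralizer (V : Set G) := by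
        refine cent_of_acts (M := M.toNatV) (pow_mem (T.mem l) p) ?_
        have h3 := acts_pow (M := M.toNatV) (T.mem l) (T.act l) p
        have e : (Function.update 1 l (dg t T.ne_zero) : Fin k → Matrix.SpecialLinearGroup (Fin 2) F) ^ p = 1 := by
          funext i
          rw [Pi.pow_apply, Pi.one_apply]
          by_cases hi : i = l
          · rw [hi, Function.update_self, dg_pow]
            apply ext_ent <;> simp [T.pow]
          · rw [Function.update_of_ne hi, Pi.one_apply, one_pow]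
        rwa [e] at h3
      have h3 : x ^ p ∈ centralizer (V : Set G) := by
        have e : x ^ p = s * h l ^ p * s⁻¹ := by
          rw [hxdef, conj_pow]
        rw [e, mem_centralizer_iff]
        intro v hv
        have h4 := mem_centralizer_iff.1 h2 _ (NV.cj_mem' M.toNatV (NV.SP M hs) hv)
        calc v * (s * h l ^ p * s⁻¹) = s * ((s⁻¹ * v * s) * h l ^ p) * s⁻¹ := by group
          _ = s * (h l ^ p * (s⁻¹ * v * s)) * s⁻¹ := by rw [h4]
          _ = s * h l ^ p * s⁻¹ * v := by group
      exact acts_unique (M := M.toNatV) h1 (acts_of_cent (M := M.toNatV) h3)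
    have hap : (ent (A m) 0 0) ^ p = 1 := by
      have h1 := ap_pow_tri htri p
      have h2 : A m ^ p = 1 := by
        have := congrFun hAp m
        rwa [Pi.pow_apply, Pi.one_apply] at this
      rw [h2, ap_one] at h1
      exact (congrFun h1 0).symm
    have ha0 : ent (A m) 0 0 ≠ 0 := by
      intro h0
      rw [h0, zero_pow T.prime.ne_zero] at hap
      exact zero_ne_one hap
    -- `a` is a power of `t`
    have : Fact p.Prime := ⟨T.prime⟩
    have : NeZero p := ⟨T.prime.ne_zero⟩
    have hprim : IsPrimitiveRoot t p := by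
      rw [IsPrimitiveRoot.iff_orderOf]
      exact orderOf_eq_prime T.pow T.ne_one
    obtain ⟨r, -, hr⟩ := hprim.eq_pow_of_pow_eq_one hap
    refine ⟨r, ?_⟩
    set b := ent (A m) 0 1 * ent (A m) 0 0 with hb
    obtain ⟨u, hu, hub⟩ := M.unip (Function.update 0 m b)
    have huL : u ∈ LS M := mem_LS hu hub
    have huN : u ∈ normalizer (LS M : Set G) := le_normalizer huL
    have h1 : Act (zc (LS M)) x (u * h m ^ r) := by
      refine act_of_eq (M := M) hxP hxN (mul_mem (NV.SP M hu) (pow_mem (T.mem m) r))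
        (mul_mem huN (pow_mem (T.nor m) r)) hA ?_
      have h2 := NV.acts_mul (M := M.toNatV) (pow_mem (T.mem m) r) hub (acts_pow (M := M.toNatV) (T.mem m) (T.act m) r)
      have e : (fun i => up ((Function.update 0 m b : Fin k → F) i)) *
          (Function.update 1 m (dg t T.ne_zero) : Fin k → Matrix.SpecialLinearGroup (Fin 2) F) ^ r = A := by
        funext i
        rw [Pi.mul_apply, Pi.pow_apply]
        by_cases hi : i = m
        · rw [hi, Function.update_self, Function.update_self, dg_pow]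
          have h3 := tri_eq htri ha0
          conv_rhs => rw [h3]
          congr 1
          apply ext_ent <;> simp [hr]
        · rw [Function.update_of_ne hi, Function.update_of_ne hi, Pi.one_apply, one_pow, Pi.zero_apply, up_zero,
            mul_one, hA1 i hi]
      rwa [e] at h2
    intro e he
    rw [h1 e he]
    have h3 : h m ^ r * e * (h m ^ r)⁻¹ ∈ zc (LS M) :=
      (mem_normalizer_iff.1 (MinSimple.VModule.normalizer_le_normalizer_zc _ (pow_mem (T.nor m) r)) e).1 he
    have h4 := (mem_zc.1 h3).2.1 u huL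
    calc u * h m ^ r * e * (u * h m ^ r)⁻¹ = (u * (h m ^ r * e * (h m ^ r)⁻¹)) * u⁻¹ := by group
      _ = ((h m ^ r * e * (h m ^ r)⁻¹) * u) * u⁻¹ := by rw [h4]
      _ = h m ^ r * e * (h m ^ r)⁻¹ := by group
  field s hs hcomm := by
    classical
    have hLE : ∀ l, NV.line M.toNatV l ≤ zc (LS M) := fun l => (NV.lines_mono M.toNatV (Set.subset_univ _)).trans (lines_le_zc)
    have hconj : ∀ l, ∀ v ∈ NV.line M.toNatV l, s * (h l * v * (h l)⁻¹) * s⁻¹ = h l * (s * v * s⁻¹) * (h l)⁻¹ := by
      intro l v hv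
      have h1 := hcomm l v (hLE l hv)
      calc s * (h l * v * (h l)⁻¹) * s⁻¹ = (s * h l) * v * (s * h l)⁻¹ := by group
        _ = (h l * s) * v * (h l * s)⁻¹ := h1
        _ = h l * (s * v * s⁻¹) * (h l)⁻¹ := by group
    have hsg : ∀ l, NV.sg M.toNatV (NV.SP M hs) l = l := by
      intro l
      by_contra hne
      obtain ⟨v, hv, hv1⟩ := exists_line M l
      have h1 : s * v * s⁻¹ ∈ NV.line M.toNatV (NV.sg M.toNatV (NV.SP M hs) l) := by
        rw [← NV.conj_line M.toNatV (NV.SP M) hs]
        exact conj_mem_cj' hv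
      have h2 := T.comm_fac (l := NV.sg M.toNatV (NV.SP M hs) l) (m := l) hne h1.1
      have h3 := hconj l v hv
      have h4 : h l * (s * v * s⁻¹) * (h l)⁻¹ = s * v * s⁻¹ := by rw [h2]; group
      rw [h4] at h3
      have h5 : h l * v * (h l)⁻¹ = v := by
        have h6 : s * (h l * v * (h l)⁻¹) = s * v := mul_right_cancel h3
        exact mul_left_cancel h6
      apply hv1
      refine T.fpf hv ?_
      calc h l * v = (h l * v * (h l)⁻¹) * h l := by group
        _ = v * h l := by rw [h5]
    have hsl : ∀ l, s ∈ normalizer (NV.fac M.toNatV l : Set G) := fun l => (NV.mem_normalizer_fac_iff M.toNatV (NV.SP M hs)).2 (hsg l)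
    have key : ∀ l, ∃ b : F, ∀ v ∈ V, M.e (s * v * s⁻¹) l = ap (up b) (M.e v l) := by
      intro l
      refine act_up (M := M.toNatV) (NV.SP M) T.field hs (hsl l) fun v hv w hw hvw => ?_
      have h1 : w = h l * v * (h l)⁻¹ := by
        refine NV.ext_fac M.toNatV hw.1 ?_ ?_
        · exact ((mem_normalizer_iff.1 (T.mem_nor l l) v).1 hv).1
        · rw [T.e_line hv, hvw]
      have h2 : s * v * s⁻¹ ∈ NV.line M.toNatV l := by
        have h3 : s * v * s⁻¹ ∈ NV.line M.toNatV (NV.sg M.toNatV (NV.SP M hs) l) := by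
          rw [← NV.conj_line M.toNatV (NV.SP M) hs]
          exact conj_mem_cj' hv
        rwa [hsg] at h3
      rw [h1, hconj l v hv, T.e_line h2]
    choose b hb using key
    refine mem_LS (M := M) hs (A := fun l => up (b l)) ⟨fun v hv i => hb i v hv, fun d hd => ?_⟩
    rw [mem_bot] at hd
    rw [hd]
    group
  ZE l := (NV.lines_mono M.toNatV (Set.subset_univ _)).trans (lines_le_zc)
  Zne l := by
    obtain ⟨z, hz, hz1⟩ := exists_line M l
    intro h0
    rw [h0, mem_bot] at hz
    exact hz1 hz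
  Znor l := T.mem_nor l l
  Zfpf l z hz hc := T.fpf hz hc
  Zcent l m hlm z hz := T.comm_fac hlm hz.1
  Zperm s hs l := ⟨NV.sg M.toNatV (NV.SP M hs) l, fun v => by
    rw [← NV.conj_line M.toNatV (NV.SP M) hs, mem_cj]
    have e : s⁻¹ * (s * v * s⁻¹) * s = v := by group
    rw [e]⟩
  trans l m := by
    obtain ⟨s, hs, h1⟩ := NV.exists_trans M.toNatV (NV.SP M) l m
    refine ⟨s, hs, fun v => ?_⟩
    have h2 : NV.sg M.toNatV (NV.SP M hs) l = m := (NV.sg_eq_iff M.toNatV (NV.SP M hs)).2 h1
    rw [← h2, ← NV.conj_line M.toNatV (NV.SP M) hs, mem_cj]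
    have e : s⁻¹ * (s * v * s⁻¹) * s = v := by group
    rw [e]
  fix z hz := by
    obtain ⟨v, hv, d, hd, rfl⟩ := zc_S_le (M := M) hz
    refine ⟨d, D_le_zc hd, fun l => (mem_centralizer_iff.1 (M.cD (T.mem l)) d hd).symm, v,
      lines_le_iSup M hv, ?_⟩
    exact (mem_centralizer_iff.1 (M.cD (NV.SP M (NV.V_le_S M hv.1.1))) d hd).symm

/-- the consequences for the factors -/
theorem ccD_of (M : NatD F S P V D k) (hmain : ∀ i, o2 (normalizer (NV.line M.toNatV i : Set G)) ≤
    centralizer (zc (LS M) : Set G)) {i l : Fin k} (hli : l ≠ i) :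
    NV.fac M.toNatV l ≤ centralizer (o2 (normalizer (NV.line M.toNatV i : Set G)) : Set G) := by
  set W := o2 (normalizer (NV.line M.toNatV i : Set G)) with hW
  have hNW : normalizer (NV.line M.toNatV i : Set G) ≤ normalizer (W : Set G) := MinSimple.VModule.le_normalizer_o2 _
  have hCW : centralizer (NV.line M.toNatV i : Set G) ≤ normalizer (W : Set G) := (centralizer_le_normalizer _).trans hNW
  have hLE : ∀ l, NV.line M.toNatV l ≤ zc (LS M) := fun l => (NV.lines_mono M.toNatV (Set.subset_univ _)).trans lines_le_zc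
  have h1 : W ≤ centralizer (zc (LS M) : Set G) := hmain i
  intro v hv
  rw [mem_centralizer_iff]
  intro w hw
  by_cases hv1 : v = 1
  · rw [hv1, mul_one, one_mul]
  obtain ⟨z, hz, hz1⟩ := exists_line M l
  obtain ⟨g, hg, hgz⟩ := NV.exists_grp M.toNatV (NV.line_le M.toNatV l hz) hv hz1 hv1
  have hgW : g ∈ normalizer (W : Set G) := by
    refine hCW (mem_centralizer_iff.2 fun x hx => ?_)
    exact (NV.grp_comm M.toNatV (Set.disjoint_singleton.2 hli) hg (NV.line_le M.toNatV i hx)).symm
  have hw' : g⁻¹ * w * g ∈ W := by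
    have := (mem_normalizer_iff.1 (inv_mem hgW) w).1 hw
    rwa [inv_inv] at this
  have h2 := mem_centralizer_iff.1 (h1 hw') z (hLE l hz)
  rw [← hgz]
  calc w * (g * z * g⁻¹) = g * ((g⁻¹ * w * g) * z) * g⁻¹ := by group
    _ = g * (z * (g⁻¹ * w * g)) * g⁻¹ := by rw [h2]
    _ = g * z * g⁻¹ * w := by group

end Cfsg.Agent.Omega.IId.ThmCQ.Sp
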