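import Cfsg.Agent.Omega.IId.ThmCQ.Dat

/-!
# THEOREM C with `D`, case `q ≥ 4`, (1): the decomposition `A = C₀ ⊕ ⨁ C_l`

`eps ρ h l` is the projection onto `C_l = [A, h l]`, `avg ρ (DD h)` the projection onto `C₀ = C_A(D^)`
(after helper334's `ThmC/FourDec.lean`).
-/

set_option autoImplicit false
set_option linter.unusedSectionVars false
set_option linter.unusedVariables false
set_option linter.style.haveILetI false

namespace Cfsg.Agent.Omega.IId.ThmCQ

open Subgroup Cfsg Cfsg.Agent.Omega.ThmC.Four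
open Cfsg.Agent.Omega.ThmC.Four.Abs (Perm zpowers_le_DD' DD_le_sup DD_le_sup' map_DL_le map_DD_le card_map_conj map_DD map_DL conj_eps pow_fix)

universe u

namespace AbsD

variable {N A : Type u} [Group N] [Finite N] [AddCommGroup A] [Finite A] {ρ : N →* AddMonoid.End A}
  {S : Sylow 2 N} {k : ℕ} {h : Fin k → N} {Z : Fin k → AddSubgroup A} {p : ℕ}

theorem DD_comm (d : AbsD ρ S h Z p) : ∀ x ∈ DD h, ∀ y ∈ DD h, x * y = y * x := by
  have h1 : ∀ l, ∀ y ∈ DD h, h l * y = y * h l := by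
    intro l y hy
    have : DD h ≤ centralizer ({h l} : Set N) := by
      rw [DD, closure_le]
      rintro _ ⟨m, rfl⟩
      rw [SetLike.mem_coe, mem_centralizer_iff]
      rintro _ rfl
      exact d.hcomm l m
    exact mem_centralizer_iff.1 (this hy) _ rfl
  intro x hx y hy
  have : DD h ≤ centralizer ({y} : Set N) := by
    rw [DD, closure_le]
    rintro _ ⟨m, rfl⟩
    rw [SetLike.mem_coe, mem_centralizer_iff]
    rintro _ rfl
    exact (h1 m _ hy).symm
  exact (mem_centralizer_iff.1 (this hx) _ rfl).symm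

theorem DD_pow (d : AbsD ρ S h Z p) : ∀ x ∈ DD h, x ^ p = 1 := by
  intro x hx
  have hx' := hx
  rw [DD] at hx
  induction hx using Subgroup.closure_induction with
  | mem z hz => obtain ⟨l, rfl⟩ := hz; exact d.hp l
  | one => exact one_pow _
  | mul a b ha hb iha ihb =>
    have hc : Commute a b := d.DD_comm a ha b hb
    rw [hc.mul_pow, iha ha, ihb hb, one_mul]
  | inv a ha iha => rw [inv_pow, iha ha, inv_one]

theorem odd_card (d : AbsD ρ S h Z p) {X : Subgroup N} (hX : X ≤ DD h) : Odd (Nat.card X) := by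
  haveI := Fact.mk d.prime
  have : IsPGroup p X := fun x => ⟨1, by
    rw [pow_one]
    exact Subtype.ext (d.DD_pow _ (hX x.2))⟩
  obtain ⟨n, hn⟩ := IsPGroup.iff_card.1 this
  rw [hn]
  exact (d.prime.odd_of_ne_two d.odd).pow

theorem avg_mul' (d : AbsD ρ S h Z p) {X Y Z' : Subgroup N} (hX : X ≤ DD h) (hY : Y ≤ DD h) (hZ : Z' ≤ DD h)
    (hXZ : X ≤ Z') (hYZ : Y ≤ Z') (hle : Z' ≤ X ⊔ Y) : avg ρ X * avg ρ Y = avg ρ Z' :=
  avg_mul_avg ρ d.two (d.odd_card hX) (d.odd_card hY) (d.odd_card hZ) hXZ hYZ hle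
    fun x hx y hy => d.DD_comm x (hX hx) y (hY hy)

theorem DL_DL (d : AbsD ρ S h Z p) {l m : Fin k} (hlm : l ≠ m) :
    avg ρ (DL h l) * avg ρ (DL h m) = avg ρ (DD h) :=
  d.avg_mul' (DL_le h l) (DL_le h m) le_rfl (DL_le h l) (DL_le h m) (DD_le_sup hlm)

theorem self_mul (d : AbsD ρ S h Z p) {X : Subgroup N} (hX : X ≤ DD h) : avg ρ X * avg ρ X = avg ρ X :=
  d.avg_mul' hX hX hX le_rfl le_rfl le_sup_left

theorem mul_DD (d : AbsD ρ S h Z p) {X : Subgroup N} (hX : X ≤ DD h) : avg ρ X * avg ρ (DD h) = avg ρ (DD h) :=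
  d.avg_mul' hX le_rfl le_rfl hX le_rfl le_sup_right

theorem DD_mul (d : AbsD ρ S h Z p) {X : Subgroup N} (hX : X ≤ DD h) : avg ρ (DD h) * avg ρ X = avg ρ (DD h) :=
  d.avg_mul' le_rfl hX le_rfl le_rfl hX le_sup_left

theorem add_self' (d : AbsD ρ S h Z p) (T : AddMonoid.End A) : T + T = 0 := End_two d.two T

theorem eps_idem (d : AbsD ρ S h Z p) (l : Fin k) : eps ρ h l * eps ρ h l = eps ρ h l := by
  rw [eps, mul_add, add_mul, add_mul, d.self_mul (DL_le h l), d.mul_DD (DL_le h l), d.DD_mul (DL_le h l),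
    d.self_mul le_rfl, d.add_self', add_zero]

theorem eps_orth (d : AbsD ρ S h Z p) {l m : Fin k} (hlm : l ≠ m) : eps ρ h l * eps ρ h m = 0 := by
  rw [eps, eps, mul_add, add_mul, add_mul, d.DL_DL hlm, d.mul_DD (DL_le h l), d.DD_mul (DL_le h m),
    d.self_mul le_rfl, d.add_self']

theorem h_mul_eps (d : AbsD ρ S h Z p) {l m : Fin k} (hml : m ≠ l) : ρ (h m) * eps ρ h l = eps ρ h l := by
  rw [eps, mul_add, left_avg ρ (h_mem_DL h hml), left_avg ρ (h_mem_DD h m)]

theorem eps_mul_h (d : AbsD ρ S h Z p) {l m : Fin k} (hml : m ≠ l) : eps ρ h l * ρ (h m) = eps ρ h l := by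
  rw [eps, add_mul, avg_right ρ (h_mem_DL h hml), avg_right ρ (h_mem_DD h m)]

/-- An element of `N` which commutes with all `h m` commutes with `eps l`. -/
theorem commute_DD (d : AbsD ρ S h Z p) {x : N} (hx : x ∈ DD h) (l : Fin k) :
    ρ x * eps ρ h l = eps ρ h l * ρ x := by
  rw [eps, mul_add, add_mul]
  congr 1
  · refine commute_avg ρ fun y hy => ?_
    rw [← map_mul, ← map_mul, d.DD_comm x hx y (DL_le h l hy)]
  · refine commute_avg ρ fun y hy => ?_
    rw [← map_mul, ← map_mul, d.DD_comm x hx y hy]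

/-! ### (1) -/

/-- `Z l` is invariant under `D`. -/
theorem Z_inv (d : AbsD ρ S h Z p) (l : Fin k) : ∀ x ∈ DD h, ∀ z ∈ Z l, ρ x z ∈ Z l := by
  have hgen : ∀ m, ∀ z ∈ Z l, ρ (h m) z ∈ Z l := by
    intro m z hz
    by_cases hm : l = m
    · subst hm; exact d.Znor l z hz
    · rw [d.Zcent l m hm z hz]; exact hz
  intro x hx
  rw [DD] at hx
  induction hx using Subgroup.closure_induction with
  | mem y hy => obtain ⟨m, rfl⟩ := hy; exact hgen m
  | one => intro z hz; rw [map_one]; exact hz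
  | mul a b ha hb iha ihb => intro z hz; rw [map_mul]; exact iha _ (ihb z hz)
  | inv a ha iha =>
    intro z hz
    -- `a⁻¹ = a ^ (p - 1)`
    have h1 : a⁻¹ = a ^ (p - 1) := by
      have h2 := d.DD_pow a ha
      have h3 : a ^ (p - 1) * a = 1 := by
        rw [← pow_succ, Nat.sub_add_cancel d.prime.one_lt.le, h2]
      exact (eq_inv_of_mul_eq_one_left h3).symm
    rw [h1]
    generalize p - 1 = n
    induction n with
    | zero => rw [pow_zero, map_one]; exact hz
    | succ n ih => rw [pow_succ', map_mul]; exact iha _ ih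

theorem avg_Z (d : AbsD ρ S h Z p) {l : Fin k} {X : Subgroup N} (hX : X ≤ DD h) (hl : h l ∈ X) {z : A}
    (hz : z ∈ Z l) : avg ρ X z = 0 := by
  refine d.Zfpf l _ (avg_mem ρ (fun x hx => d.Z_inv l x (hX hx)) hz) ?_
  exact fix_avg_apply ρ hl z

theorem avg_DL_Z (d : AbsD ρ S h Z p) {l : Fin k} {z : A} (hz : z ∈ Z l) : avg ρ (DL h l) z = z := by
  refine avg_apply_of_fix ρ d.two (d.odd_card (DL_le h l)) fun x hx => ?_
  rw [DL] at hx
  induction hx using Subgroup.closure_induction with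
  | mem y hy => obtain ⟨m, hm, rfl⟩ := hy; exact d.Zcent l m (fun e => hm e.symm) z hz
  | one => rw [map_one]; rfl
  | mul a b ha hb iha ihb => rw [map_mul]; change ρ a (ρ b z) = z; rw [ihb, iha]
  | inv a ha iha => exact pow_fix iha ⟨-1, by simp⟩

theorem eps_Z (d : AbsD ρ S h Z p) {l : Fin k} {z : A} (hz : z ∈ Z l) : eps ρ h l z = z := by
  change avg ρ (DL h l) z + avg ρ (DD h) z = z
  rw [d.avg_DL_Z hz, d.avg_Z le_rfl (h_mem_DD h l) hz, add_zero]

theorem eps_Z' (d : AbsD ρ S h Z p) {l m : Fin k} (hml : m ≠ l) {z : A} (hz : z ∈ Z l) : eps ρ h m z = 0 := by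
  change avg ρ (DL h m) z + avg ρ (DD h) z = 0
  rw [d.avg_Z (DL_le h m) (h_mem_DL h hml.symm) hz, d.avg_Z le_rfl (h_mem_DD h l) hz, add_zero]

theorem eps_ne (d : AbsD ρ S h Z p) (l : Fin k) : ∃ a, eps ρ h l a ≠ 0 := by
  obtain ⟨a, ha⟩ := AddSubgroup.ne_bot_iff_exists_ne_zero.1 (d.Zne l)
  refine ⟨a, ?_⟩
  rw [d.eps_Z a.2]
  exact fun h => ha (Subtype.ext h)

theorem DD_mul_eps (d : AbsD ρ S h Z p) (l : Fin k) : avg ρ (DD h) * eps ρ h l = 0 := by
  rw [eps, mul_add, d.DD_mul (DL_le h l), d.self_mul le_rfl, d.add_self']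

theorem eps_mul_DD (d : AbsD ρ S h Z p) (l : Fin k) : eps ρ h l * avg ρ (DD h) = 0 := by
  rw [eps, add_mul, d.mul_DD (DL_le h l), d.self_mul le_rfl, d.add_self']

/-- `C₀` is fixed by `D^`. -/
theorem C0_fix {a : A} (ha : a ∈ C0 ρ h) : ∀ x ∈ DD h, ρ x a = a := by
  intro x hx
  rw [DD] at hx
  induction hx using Subgroup.closure_induction with
  | mem y hy => obtain ⟨m, rfl⟩ := hy; exact ha m
  | one => rw [map_one]; rfl
  | mul a b ha hb iha ihb => rw [map_mul]; change ρ a (ρ b _) = _; rw [ihb, iha]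
  | inv a ha iha => exact pow_fix iha ⟨-1, by simp⟩

theorem avg_C0 (d : AbsD ρ S h Z p) {X : Subgroup N} (hX : X ≤ DD h) {a : A} (ha : a ∈ C0 ρ h) : avg ρ X a = a :=
  avg_apply_of_fix ρ d.two (d.odd_card hX) fun x hx => C0_fix ha x (hX hx)

theorem eps_C0 (d : AbsD ρ S h Z p) (l : Fin k) {a : A} (ha : a ∈ C0 ρ h) : eps ρ h l a = 0 := by
  change avg ρ (DL h l) a + avg ρ (DD h) a = 0
  rw [d.avg_C0 (DL_le h l) ha, d.avg_C0 le_rfl ha, d.two]

/-- **(1)** `A = C₀ ⊕ ⨁ C_l`. -/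
theorem sum_eps (d : AbsD ρ S h Z p) : avg ρ (DD h) + ∑ l, eps ρ h l = 1 := by
  classical
  set E₁ : AddMonoid.End A := ∑ l, eps ρ h l with hE₁
  set E : AddMonoid.End A := avg ρ (DD h) + E₁ with hE
  have hEE₁ : E₁ * E₁ = E₁ := by
    rw [hE₁, Finset.sum_mul]
    refine Finset.sum_congr rfl fun l _ => ?_
    rw [Finset.mul_sum, Finset.sum_eq_single l (fun m _ hm => d.eps_orth hm.symm)
      (fun h => (h (Finset.mem_univ l)).elim), d.eps_idem]
  have h01 : avg ρ (DD h) * E₁ = 0 := by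
    rw [hE₁, Finset.mul_sum]
    exact Finset.sum_eq_zero fun l _ => d.DD_mul_eps l
  have h10 : E₁ * avg ρ (DD h) = 0 := by
    rw [hE₁, Finset.sum_mul]
    exact Finset.sum_eq_zero fun l _ => d.eps_mul_DD l
  have hEE : E * E = E := by
    rw [hE, mul_add, add_mul, add_mul, d.self_mul le_rfl, h10, h01, hEE₁, add_zero, zero_add]
  have hES : ∀ s ∈ (S : Subgroup N), ρ s * E = E * ρ s := by
    intro s hs
    obtain ⟨σ, hσ⟩ := d.perm s hs
    rw [hE, mul_add, add_mul, hE₁, Finset.mul_sum, Finset.sum_mul]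
    congr 1
    · rw [avg_conj, map_DD hσ]
    · calc ∑ l, ρ s * eps ρ h l = ∑ l, eps ρ h (σ l) * ρ s := Finset.sum_congr rfl fun l _ => conj_eps hσ l
        _ = _ := Equiv.sum_comp σ fun l => eps ρ h l * ρ s
  have hEapp : ∀ a, E a = avg ρ (DD h) a + ∑ l, eps ρ h l a := by
    intro a
    rw [hE, hE₁]
    change avg ρ (DD h) a + (∑ l, eps ρ h l : AddMonoid.End A) a = _
    congr 1
    exact AddMonoidHom.finsetSum_apply _ _ _
  have hEZ : ∀ a ∈ C0 ρ h ⊔ ⨆ l, Z l, E a = a := by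
    intro a ha
    have : C0 ρ h ⊔ ⨆ l, Z l ≤ (E : A →+ A).eqLocus (AddMonoidHom.id A) := by
      refine sup_le (fun a ha => ?_) (iSup_le fun l z hz => ?_)
      · change E a = a
        rw [hEapp, d.avg_C0 le_rfl ha, Finset.sum_eq_zero fun l _ => d.eps_C0 l ha, add_zero]
      · change E z = z
        rw [hEapp, d.avg_Z le_rfl (h_mem_DD h l) hz, zero_add, Finset.sum_eq_single l (fun m _ hm => d.eps_Z' hm hz)
          (fun h => (h (Finset.mem_univ l)).elim), d.eps_Z hz]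
    exact this ha
  have hker : (E : A →+ A).ker = ⊥ := by
    by_contra hne
    obtain ⟨a, ha, ha0, hfix⟩ := exists_fix (ρ := ρ) d.two S.isPGroup' (K := (E : A →+ A).ker) (by
      intro s hs a ha
      have h1 : E a = 0 := ha
      change E (ρ s a) = 0
      have h2 := congrArg (fun T : AddMonoid.End A => T a) (hES s hs)
      change ρ s (E a) = E (ρ s a) at h2
      rw [← h2, h1, map_zero]) hne
    have h1 : E a = 0 := ha
    rw [hEZ a (d.fix a hfix)] at h1
    exact ha0 h1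
  ext a
  have h1 : a + E a ∈ (E : A →+ A).ker := by
    change E (a + E a) = 0
    have h2 := congrArg (fun T : AddMonoid.End A => T a) hEE
    change E (E a) = E a at h2
    rw [map_add, h2, d.two]
  rw [hker, AddSubgroup.mem_bot] at h1
  change E a = a
  have h3 := d.two a
  calc E a = a + a + E a := by rw [h3, zero_add]
    _ = a + (a + E a) := by rw [add_assoc]
    _ = a := by rw [h1, add_zero]

theorem avg_h_mul_eps (d : AbsD ρ S h Z p) (l : Fin k) : avg ρ (zpowers (h l)) * eps ρ h l = 0 := by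
  rw [eps, mul_add, d.mul_DD (zpowers_le_DD h l),
    d.avg_mul' (zpowers_le_DD h l) (DL_le h l) le_rfl (zpowers_le_DD h l) (DL_le h l) (DD_le_sup' l), d.add_self']

/-- `eps l = 1 + avg ⟨h l⟩`. -/
theorem eps_eq (d : AbsD ρ S h Z p) (l : Fin k) : eps ρ h l = 1 + avg ρ (zpowers (h l)) := by
  classical
  have h1 : avg ρ (zpowers (h l)) = avg ρ (DD h) + ∑ m, avg ρ (zpowers (h l)) * eps ρ h m := by
    calc avg ρ (zpowers (h l)) = avg ρ (zpowers (h l)) * (avg ρ (DD h) + ∑ l, eps ρ h l) := by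
          rw [d.sum_eps, mul_one]
      _ = _ := by rw [mul_add, d.mul_DD (zpowers_le_DD h l), Finset.mul_sum]
  have h2 : eps ρ h l + avg ρ (zpowers (h l)) = 1 := by
    rw [h1, ← d.sum_eps, ← Finset.add_sum_erase Finset.univ _ (Finset.mem_univ l),
      ← Finset.add_sum_erase (a := l) Finset.univ (fun m => eps ρ h m) (Finset.mem_univ l), d.avg_h_mul_eps, zero_add,
      add_left_comm]
    congr 2
    refine Finset.sum_congr rfl fun m hm => ?_
    have hml : l ≠ m := (Finset.ne_of_mem_erase hm).symm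
    refine avg_mul_of_fix ρ d.two (d.odd_card (zpowers_le_DD h l)) fun x hx => ?_
    ext a
    exact pow_fix (ρ := ρ) (congrArg (fun T : AddMonoid.End A => T a) (d.h_mul_eps hml)) hx
  calc eps ρ h l = eps ρ h l + (avg ρ (zpowers (h l)) + avg ρ (zpowers (h l))) := by rw [d.add_self', add_zero]
    _ = _ := by rw [← add_assoc, h2]

/-- `h l` is fixed-point-free on `C_l`. -/
theorem fpf (d : AbsD ρ S h Z p) {l : Fin k} {a : A} (ha : ρ (h l) (eps ρ h l a) = eps ρ h l a) :
    eps ρ h l a = 0 := by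
  have h1 : avg ρ (zpowers (h l)) (eps ρ h l a) = eps ρ h l a :=
    avg_apply_of_fix ρ d.two (d.odd_card (zpowers_le_DD h l)) fun x hx => pow_fix ha hx
  rw [← h1]
  exact congrArg (fun T : AddMonoid.End A => T a) (d.avg_h_mul_eps l)

/-- An element of `N` which commutes with `h l` commutes with `eps l`. -/
theorem commute_eps (d : AbsD ρ S h Z p) {x : N} {l : Fin k} (hx : x * h l = h l * x) :
    ρ x * eps ρ h l = eps ρ h l * ρ x := by
  rw [d.eps_eq, mul_add, add_mul, mul_one, one_mul]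
  congr 1
  refine commute_avg ρ fun y hy => ?_
  obtain ⟨n, rfl⟩ := hy
  rw [← map_mul, ← map_mul]
  congr 1
  exact ((show Commute x (h l) from hx).zpow_right n)

theorem h_ne (d : AbsD ρ S h Z p) (l : Fin k) : h l ≠ 1 := by
  intro he
  obtain ⟨a, ha⟩ := d.eps_ne l
  refine ha (d.fpf ?_)
  rw [he, map_one]
  rfl

theorem orderOf_h (d : AbsD ρ S h Z p) (l : Fin k) : orderOf (h l) = p := by
  haveI := Fact.mk d.prime
  exact orderOf_eq_prime (d.hp l) (d.h_ne l)

end AbsD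

end Cfsg.Agent.Omega.IId.ThmCQ
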