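import Cfsg.Agent.Omega.IId.ThmCQ.Fix

/-!
`DatD.main` is in `ThmCQ/Fix.lean` (helper286). This file only re-exports it (a second proof, over `ThmCD/CountN.lean`, was
here; see the history of the repository).
-/
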