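import Cfsg.Agent.Omega.ThmC.FourMk
import Cfsg.Agent.Omega.IId.Ns.HFac
import Cfsg.Agent.Omega.IId.Ns.Side
import Cfsg.Agent.Omega.Half.SymPts

/-!
# THEOREM C with `D`, `q ≥ 4`, `V_P` split or nonsplit over `D = C_V(O²(P))`: the subgroup `S^L`

`M : NatK F S P (zl S P) (cv S P) k`, `4 ≤ |F|`; `PL M` = the elements of `P` which act on `V / D` as elements of
`SL₂(F)^k` and centralise `D`; `LS M = S ∩ PL M`.  The same facts as in `ThmC/FourOf.lean` (helper334) and
`ThmCQ/SpBase.lean` (helper732).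
-/

set_option autoImplicit false
set_option linter.unusedSectionVars false
set_option linter.unusedVariables false

namespace Cfsg.Agent.Omega.IId.ThmCQ.Nsp

open Subgroup Cfsg Cfsg.Agent.ZN Cfsg.Agent.Omega.IId Cfsg.Agent.Omega.ThmC.Four
open Cfsg.Agent.ZN.ChoiceSit hiding zc_le zc_le_zl
open Cfsg.Agent.ZN.ChoiceBase hiding mem_zc
open Cfsg.Agent.Omega.MinPar Cfsg.Agent.Omega.FrameFF Cfsg.Agent.Omega.FFThm
open Cfsg.Agent.MinSimple.VModule (le_normalizer_zl mem_zc zc_le zc_le_zl)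
open Cfsg.Agent.Lib.SL2Mat
open Cfsg.Agent.Omega.NatPair (ap ap_mul ap_one ap_inv_ap ap_ap_inv exists_ap ap_add ap_inj ap_smul)
open Cfsg.Agent.Omega.ThmC (le_centralizer_of_fixed)
open Cfsg.Agent.Omega.ThmC.FourOf (conj_sylow eq_one_of_pow tri_up dg_pow ap_pow_tri)
open Cfsg.Agent.Omega.HOne (cv_le conj_mem_zl conj_mem_cv)
open Cfsg.Agent.Omega.IId.Cv (e_one e_inv e_div eq_iff e_cv e_mul_cv)
open Cfsg.Agent.Omega.IId.Ns

universe u

section gen

variable {G : Type u} [Group G] {F : Type} [Field F] {S P : Subgroup G} {k : ℕ}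
  {M : NatK F S P (zl S P) (cv S P) k}

/-- the action determines the matrices -/
theorem acts_unique {g : G} {A B : Fin k → Matrix.SpecialLinearGroup (Fin 2) F}
    (hA : ActsSL M.e (zl S P) (cv S P) g A) (hB : ActsSL M.e (zl S P) (cv S P) g B) : A = B := by
  funext i
  refine ap_inj fun x => ?_
  obtain ⟨v, hv, hx, -⟩ := Ns.exists_single (M := M) i x
  rw [← hx, ← hA.1 v hv i, hB.1 v hv i]

theorem acts_pow {g : G} (hg : g ∈ P) {A : Fin k → Matrix.SpecialLinearGroup (Fin 2) F}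
    (hA : ActsSL M.e (zl S P) (cv S P) g A) (n : ℕ) : ActsSL M.e (zl S P) (cv S P) (g ^ n) (fun i => A i ^ n) := by
  induction n with
  | zero => simpa only [pow_zero] using Ns.acts_one M
  | succ n ih =>
    have h1 := Ns.acts_mul M (pow_mem hg n) hg ih hA
    simpa only [pow_succ] using h1

theorem acts_of_cent {g : G} (hg : g ∈ centralizer (zl S P : Set G)) :
    ActsSL M.e (zl S P) (cv S P) g (fun _ => 1) := by
  refine ⟨fun v hv i => ?_, fun d hd => ?_⟩
  · have h1 := mem_centralizer_iff.1 hg v hv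
    have h2 : g * v * g⁻¹ = v := by rw [← h1]; group
    rw [h2, ap_one]
  · exact (mem_centralizer_iff.1 hg d (cv_le _ _ hd)).symm

/-- an element of 2-power order of `S` acting as an element of `SL₂(F)^k` is unipotent -/
theorem exists_up [CharP F 2] (hSP : S ≤ P) (hS : IsPGroup 2 S) {s : G} (hs : s ∈ S)
    {A : Fin k → Matrix.SpecialLinearGroup (Fin 2) F} (hA : ActsSL M.e (zl S P) (cv S P) s A) :
    ∀ i, A i = up (ent (A i) 0 1) := by
  intro i
  have hm : Mv M s i i := fun v hv => by rw [hA.1 v hv i, Ns.ap_eq_zero]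
  obtain ⟨v, hv, hve, -⟩ := Ns.exists_single (M := M) i ![1, 0]
  have h10 : ent (A i) 1 0 = 0 := by
    have h1 := (Ns.conj_line hSP hs hm hv).2 (by rw [hve]; rfl)
    rw [hA.1 v hv i, hve, NatPair.ap_one'] at h1
    simpa using h1
  obtain ⟨n, hn⟩ := hS ⟨s, hs⟩
  have hn' : s ^ 2 ^ n = 1 := congrArg Subtype.val hn
  have h3 := acts_pow (hSP hs) hA (2 ^ n)
  rw [hn'] at h3
  have h4 := acts_unique h3 (Ns.acts_one M)
  have h5 : A i ^ 2 ^ n = 1 := congrFun h4 i
  have h6 := ap_pow_tri h10 (2 ^ n)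
  rw [h5, ap_one] at h6
  have h7 : (ent (A i) 0 0) ^ 2 ^ n = 1 := (congrFun h6 0).symm
  have h00 := eq_one_of_pow h7
  have h11 : ent (A i) 1 1 = 1 := by
    have h8 := det_eq (A i)
    rw [h00, h10] at h8
    simpa using h8
  apply ext_ent
  · rw [h00, up_00]
  · rw [up_01]
  · rw [h10, up_10]
  · rw [h11, up_11]

/-- the elements of `P` which act as elements of `SL₂(F)^k` -/
def PL (M : NatK F S P (zl S P) (cv S P) k) : Subgroup G where
  carrier := {g | g ∈ P ∧ ∃ A, ActsSL M.e (zl S P) (cv S P) g A}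
  one_mem' := ⟨one_mem _, _, Ns.acts_one M⟩
  mul_mem' := by
    rintro x y ⟨hx, A, hA⟩ ⟨hy, B, hB⟩
    exact ⟨mul_mem hx hy, _, Ns.acts_mul M hx hy hA hB⟩
  inv_mem' := by
    rintro x ⟨hx, A, hA⟩
    exact ⟨inv_mem hx, _, Ns.acts_inv M hx hA⟩

theorem PL_le : PL M ≤ P := fun _ h => h.1

theorem PL_normal : P ≤ normalizer (PL M : Set G) :=
  Sd.le_normalizer_of_conj fun g hg x hx => by
    obtain ⟨hxP, A, hA⟩ := hx
    obtain ⟨B, hB⟩ := Sd.acts_conj M hg hxP hA
    exact ⟨mul_mem (mul_mem hg hxP) (inv_mem hg), B, hB⟩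

/-- the vectors whose coordinates are all on the lines -/
def LV (M : NatK F S P (zl S P) (cv S P) k) : Set G := {v | v ∈ zl S P ∧ ∀ l, M.e v l 1 = 0}

end gen

/-- The situation. -/
structure Sit {G : Type u} [Group G] [Finite G] (F : Type) [Field F] (S : Sylow 2 G) (P : Subgroup G) (k : ℕ) :
    Prop where
  hG : IsCharacteristicTwoType G
  h : IsParS (S : Subgroup G) P
  hk : 0 < k
  hF : 4 ≤ Nat.card F

section main

variable {G : Type u} [Group G] [Finite G] {F : Type} [Field F] [Finite F] [CharP F 2] {S : Sylow 2 G}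
  {P : Subgroup G} {k : ℕ} (M : NatK F (S : Subgroup G) P (zl (S : Subgroup G) P) (cv (S : Subgroup G) P) k)

/-- `S^L`: the elements of `S` acting as elements of `SL₂(F)^k` -/
def LS : Subgroup G := (S : Subgroup G) ⊓ PL M

variable {M}

theorem LS_le : LS M ≤ S := inf_le_left

theorem S_le_normalizer_LS (hSP : (S : Subgroup G) ≤ P) : (S : Subgroup G) ≤ normalizer (LS M : Set G) := by
  have h1 : (S : Subgroup G) ≤ normalizer ((S : Subgroup G) : Set G) := le_normalizer
  have h2 : (S : Subgroup G) ≤ normalizer (PL M : Set G) := hSP.trans PL_normal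
  intro s hs
  rw [mem_normalizer_iff_cj]
  rw [LS, cj_inf, cj_eq_of_mem_normalizer (h1 hs), cj_eq_of_mem_normalizer (h2 hs)]

theorem exists_b (hSP : (S : Subgroup G) ≤ P) {s : G} (hs : s ∈ LS M) :
    ∃ b : Fin k → F, ActsSL M.e (zl (S : Subgroup G) P) (cv (S : Subgroup G) P) s fun i => up (b i) := by
  obtain ⟨hsS, hsP, A, hA⟩ := hs
  refine ⟨fun i => ent (A i) 0 1, ?_⟩
  have h1 : A = fun i => up (ent (A i) 0 1) :=
    funext fun i => exists_up (M := M) hSP S.isPGroup' hsS hA i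
  rwa [← h1]

theorem mem_LS (hSP : (S : Subgroup G) ≤ P) {s : G} (hs : s ∈ (S : Subgroup G))
    {A : Fin k → Matrix.SpecialLinearGroup (Fin 2) F}
    (hA : ActsSL M.e (zl (S : Subgroup G) P) (cv (S : Subgroup G) P) s A) : s ∈ LS M :=
  ⟨hs, hSP hs, A, hA⟩

theorem mem_LS_of_cent (hSP : (S : Subgroup G) ≤ P) {s : G} (hs : s ∈ (S : Subgroup G))
    (hc : s ∈ centralizer (zl (S : Subgroup G) P : Set G)) : s ∈ LS M :=
  mem_LS hSP hs (acts_of_cent (M := M) hc)

/-- `LS` is a maximal 2-subgroup of `PL` -/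
theorem LS_max (hSP : (S : Subgroup G) ≤ P) {R : Subgroup G} (hR : IsPGroup 2 R) (h1 : LS M ≤ R)
    (h2 : R ≤ PL M) : R = LS M := by
  obtain ⟨g, hg, hgS⟩ := Half.SymA.exists_conj_le S hSP hR (h2.trans PL_le)
  have h3 : cj g R ≤ LS M := by
    intro x hx
    have hx' := mem_cj.1 hx
    have h4 : x = g * (g⁻¹ * x * g) * g⁻¹ := by group
    refine ⟨?_, ?_⟩
    · rw [h4]
      exact hgS _ hx'
    · rw [h4]
      exact (mem_normalizer_iff.1 (PL_normal hg) _).1 (h2 hx')
  symm
  refine eq_of_le_of_card_ge h1 ?_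
  calc Nat.card R = Nat.card (cj g R) := (card_cj g R).symm
    _ ≤ Nat.card (LS M) := Nat.card_le_card_of_injective _ (inclusion_injective h3)

theorem LS_isPGroup : IsPGroup 2 (LS M) := S.isPGroup'.to_le LS_le

/-! ### The ambient facts -/

variable (q : Sit F S P k)

include q

theorem SP : (S : Subgroup G) ≤ P := q.h.le

theorem V_le_S : zl (S : Subgroup G) P ≤ (S : Subgroup G) := Sd.V_le_S q.hG S q.h

theorem V_comm {v w : G} (hv : v ∈ zl (S : Subgroup G) P) (hw : w ∈ zl (S : Subgroup G) P) : v * w = w * v :=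
  Sd.V_comm q.hG S q.h hv hw

theorem V_sq {v : G} (hv : v ∈ zl (S : Subgroup G) P) : v * v = 1 := Cv.sq_zl q.hG S q.h hv

theorem V_le_LS : zl (S : Subgroup G) P ≤ LS M := by
  intro v hv
  refine mem_LS_of_cent q.h.le (V_le_S q hv) ?_
  rw [mem_centralizer_iff]
  intro w hw
  exact V_comm q hw hv

theorem D_le_zc : cv (S : Subgroup G) P ≤ zc (LS M) := by
  intro d hd
  rw [mem_zc]
  refine ⟨V_le_LS q (cv_le _ _ hd), fun s hs => ?_, ?_⟩
  · obtain ⟨-, -, A, hA⟩ := hs
    exact hA.2 d hd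
  · rw [pow_two]
    exact V_sq q (cv_le _ _ hd)

theorem o2_le_LS : o2 P ≤ LS M := by
  have h1 := q.h.inf_centralizer S q.hG
  intro x hx
  rw [← h1] at hx
  exact mem_LS_of_cent q.h.le hx.1 hx.2

/-- `C_G(O₂(P)) ≤ O₂(P)` -/
theorem cent_o2 : centralizer (o2 P : Set G) ≤ o2 P :=
  ThmC.FourOf.cent_o2 q.hG q.h

theorem cent_LS : centralizer (LS M : Set G) ≤ LS M :=
  (centralizer_le (o2_le_LS q)).trans ((cent_o2 q).trans (o2_le_LS q))

/-- elements acting as `up b` centralise the vectors on the lines -/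
theorem comm_LV {g : G} (hg : g ∈ P) {b : Fin k → F}
    (hA : ActsSL M.e (zl (S : Subgroup G) P) (cv (S : Subgroup G) P) g fun i => up (b i)) {v : G}
    (hv : v ∈ LV M) : g * v * g⁻¹ = v := by
  classical
  have key : ∀ I : Finset (Fin k), ∀ x ∈ P, ActsSL M.e (zl (S : Subgroup G) P) (cv (S : Subgroup G) P) x
      (fun i => if i ∈ I then up (b i) else 1) → x * v * x⁻¹ = v := by
    intro I
    induction I using Finset.induction_on with
    | empty =>
      intro x hx hxA
      have h1 := Sd.comm_of_acts_one q.hG S q.h M q.hk hx (by simpa using hxA) v hv.1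
      rw [h1, mul_inv_cancel_right]
    | insert i I hi ih =>
      intro x hx hxA
      obtain ⟨t, ht⟩ := exists_Al M i (up (b i))
      have h1 := Ns.acts_mul M (inv_mem ht.1) hx (Ns.acts_inv M ht.1 ht.2) hxA
      have e : (fun j => (one1 i (up (b i)) j)⁻¹ * (if j ∈ insert i I then up (b j) else 1)) =
          fun j => if j ∈ I then up (b j) else 1 := by
        funext j
        by_cases hj : j = i
        · subst hj
          rw [one1_same, if_pos (Finset.mem_insert_self _ _), if_neg hi, inv_mul_cancel]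
        · rw [one1_ne hj, inv_one, one_mul]
          simp [Finset.mem_insert, hj]
      rw [e] at h1
      have h2 := ih _ (mul_mem (inv_mem ht.1) hx) h1
      have h3 := fix_line q.hG S q.h q.hk q.hF ht hv.1 (hv.2 i)
      calc x * v * x⁻¹ = t * (t⁻¹ * x * v * (t⁻¹ * x)⁻¹) * t⁻¹ := by group
        _ = t * v * t⁻¹ := by rw [h2]
        _ = v := h3
  exact key Finset.univ g hg (by simpa using hA)

theorem LV_le_zc {v : G} (hv : v ∈ LV M) : v ∈ zc (LS M) := by
  rw [mem_zc]
  refine ⟨V_le_LS q hv.1, fun s hs => ?_, by rw [pow_two]; exact V_sq q hv.1⟩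
  obtain ⟨b, hb⟩ := exists_b q.h.le hs
  have := comm_LV q (q.h.le hs.1) hb hv
  calc s * v = (s * v * s⁻¹) * s := by group
    _ = v * s := by rw [this]

/-- `C_V(S^L)` consists of the vectors on the lines -/
theorem mem_LV_of_cent {v : G} (hv : v ∈ zl (S : Subgroup G) P) (h : ∀ s ∈ LS M, s * v = v * s) : v ∈ LV M := by
  classical
  refine ⟨hv, fun i => ?_⟩
  obtain ⟨t, ht, hact⟩ := M.unip (Function.update 0 i 1)
  have h1 := h t (mem_LS q.h.le ht hact)
  have h2 : t * v * t⁻¹ = v := by rw [h1]; group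
  have h3 := congrFun (hact.1 v hv i) 0
  rw [h2, NatPair.ap_zero'] at h3
  simp only [Function.update_self, up_00, up_01, one_mul] at h3
  exact left_eq_add.1 h3

theorem zc_S_le {z : G} (hz : z ∈ zc (S : Subgroup G)) : z ∈ LV M :=
  mem_LV_of_cent q (zc_le_zl _ P hz) fun s hs => (mem_zc.1 hz).2.1 s hs.1

/-- `C_P(V) ∩ N(S^L)` centralises `E = Ω₁ Z(S^L)` -/
theorem cent_E : P ⊓ centralizer (zl (S : Subgroup G) P : Set G) ⊓ normalizer (LS M : Set G) ≤
    centralizer (zc (LS M) : Set G) := by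
  have hnor : normalizer (LS M : Set G) ≤ normalizer (zc (LS M) : Set G) :=
    MinSimple.VModule.normalizer_le_normalizer_zc _
  refine le_centralizer_of_fixed (S := (S : Subgroup G)) (MinSimple.VModule.zc_comm _) (MinSimple.VModule.zc_sq _)
    (inf_le_right.trans hnor) ?_ S.isPGroup' ((S_le_normalizer_LS q.h.le).trans hnor) ?_ ?_
  · -- 2-elements
    rintro x ⟨⟨hxP, hxV⟩, hxN⟩ n hn a ha
    have hx2 : IsPGroup 2 (zpowers x) := by
      rintro ⟨y, j, rfl⟩
      refine ⟨n, Subtype.ext ?_⟩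
      change (x ^ j) ^ 2 ^ n = 1
      rw [← zpow_natCast, ← zpow_mul, mul_comm j, zpow_mul, zpow_natCast, hn, one_zpow]
    have hR : IsPGroup 2 (LS M ⊔ zpowers x : Subgroup G) :=
      IsPGroup.to_sup_of_normal_left' LS_isPGroup hx2 (zpowers_le.2 hxN)
    have h1 := LS_max q.h.le hR le_sup_left (sup_le inf_le_right (zpowers_le.2
      ⟨hxP, _, acts_of_cent (M := M) hxV⟩))
    have h2 : x ∈ LS M := by
      rw [← h1]
      exact (le_sup_right : zpowers x ≤ _) (mem_zpowers x)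
    exact (mem_zc.1 ha).2.1 x h2
  · -- `S` normalises the group
    have h1 : (S : Subgroup G) ≤ normalizer (P : Set G) := q.h.le.trans le_normalizer
    have h2 : (S : Subgroup G) ≤ normalizer (centralizer (zl (S : Subgroup G) P : Set G) : Set G) := by
      have h3 : (S : Subgroup G) ≤ normalizer (zl (S : Subgroup G) P : Set G) := q.h.le.trans (le_normalizer_zl _ _)
      intro s hs
      rw [mem_normalizer_iff_cj, cj_centralizer, cj_eq_of_mem_normalizer (h3 hs)]
    have h3 : (S : Subgroup G) ≤ normalizer (normalizer (LS M : Set G) : Set G) := by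
      intro s hs
      rw [mem_normalizer_iff_cj, cj_normalizer, cj_eq_of_mem_normalizer (S_le_normalizer_LS q.h.le hs)]
    intro s hs
    rw [mem_normalizer_iff_cj, cj_inf, cj_inf, cj_eq_of_mem_normalizer (h1 hs), cj_eq_of_mem_normalizer (h2 hs),
      cj_eq_of_mem_normalizer (h3 hs)]
  · -- fixed points
    rintro a ha hfix x ⟨⟨hxP, hxV⟩, -⟩
    have h1 : a ∈ zc (S : Subgroup G) := by
      rw [mem_zc]
      exact ⟨LS_le (zc_le _ ha), hfix, (mem_zc.1 ha).2.2⟩
    exact (mem_centralizer_iff.1 hxV a (zc_le_zl _ P h1)).symm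

/-- elements of `P ∩ N(S^L)` with the same matrices have the same action on `E` -/
theorem act_of_eq {x y : G} (hx : x ∈ P) (hxN : x ∈ normalizer (LS M : Set G)) (hy : y ∈ P)
    (hyN : y ∈ normalizer (LS M : Set G)) {A : Fin k → Matrix.SpecialLinearGroup (Fin 2) F}
    (hA : ActsSL M.e (zl (S : Subgroup G) P) (cv (S : Subgroup G) P) x A)
    (hB : ActsSL M.e (zl (S : Subgroup G) P) (cv (S : Subgroup G) P) y A) :
    Act (zc (LS M)) x y := by
  have h1 : y⁻¹ * x ∈ centralizer (zc (LS M) : Set G) := by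
    have h0 : y⁻¹ * x ∈ P := mul_mem (inv_mem hy) hx
    have h0' : y⁻¹ * x ∈ normalizer (LS M : Set G) := mul_mem (inv_mem hyN) hxN
    refine cent_E q ⟨⟨h0, mem_centralizer_iff.2 fun v hv => ?_⟩, h0'⟩
    exact (Sd.comm_of_acts_eq q.hG S q.h M q.hk hy hx hB hA v hv).symm
  intro e he
  have h2 := mem_centralizer_iff.1 h1 e he
  calc x * e * x⁻¹ = y * ((y⁻¹ * x) * e) * x⁻¹ := by group
    _ = y * (e * (y⁻¹ * x)) * x⁻¹ := by rw [h2]
    _ = y * e * y⁻¹ := by group

omit q in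
/-- the elements of `P` acting as unitriangular elements -/
def uni (M : NatK F (S : Subgroup G) P (zl (S : Subgroup G) P) (cv (S : Subgroup G) P) k) : Subgroup G where
  carrier := {g | g ∈ P ∧ ∃ b : Fin k → F, ActsSL M.e (zl (S : Subgroup G) P) (cv (S : Subgroup G) P) g
    fun i => up (b i)}
  one_mem' := ⟨one_mem P, 0, by
    have : (fun i => up ((0 : Fin k → F) i)) = fun _ => (1 : Matrix.SpecialLinearGroup (Fin 2) F) :=
      funext fun i => up_zero
    rw [this]
    exact Ns.acts_one M⟩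
  mul_mem' := by
    rintro g h ⟨hg, b, hb⟩ ⟨hh, c, hc⟩
    refine ⟨mul_mem hg hh, b + c, ?_⟩
    have h1 := Ns.acts_mul M hg hh hb hc
    have : (fun i => up (b i) * up (c i)) = fun i => up ((b + c) i) :=
      funext fun i => up_mul _ _
    rwa [this] at h1
  inv_mem' := by
    rintro g ⟨hg, b, hb⟩
    refine ⟨inv_mem hg, -b, ?_⟩
    have h1 := Ns.acts_inv M hg hb
    have : (fun i => (up (b i))⁻¹) = fun i => up ((-b) i) := funext fun i => up_inv _
    rwa [this] at h1

/-- every upper triangular element of `SL₂(F)^k` is induced by an element of `P ∩ N(S^L)` -/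
theorem exists_norm (A : Fin k → Matrix.SpecialLinearGroup (Fin 2) F) (hA : ∀ i, ent (A i) 1 0 = 0) :
    ∃ h ∈ P, h ∈ normalizer (LS M : Set G) ∧ ActsSL M.e (zl (S : Subgroup G) P) (cv (S : Subgroup G) P) h A := by
  obtain ⟨g, hg, hgA⟩ := M.lift A
  have hLU : LS M ≤ uni M := fun s hs => ⟨q.h.le hs.1, exists_b q.h.le hs⟩
  have hL'U : cj g (LS M) ≤ uni M := by
    intro x hx
    rw [mem_cj] at hx
    obtain ⟨b, hb⟩ := exists_b q.h.le hx
    have h1 := Ns.acts_mul M (mul_mem hg (q.h.le hx.1)) (inv_mem hg) (Ns.acts_mul M hg (q.h.le hx.1) hgA hb)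
      (Ns.acts_inv M hg hgA)
    have h2 : g * (g⁻¹ * x * g) * g⁻¹ = x := by group
    rw [h2] at h1
    refine ⟨?_, fun i => ent (A i) 0 0 ^ 2 * b i, ?_⟩
    · rw [← h2]
      exact mul_mem (mul_mem hg (q.h.le hx.1)) (inv_mem hg)
    · have h3 : (fun i => A i * up (b i) * (A i)⁻¹) = fun i => up (ent (A i) 0 0 ^ 2 * b i) :=
        funext fun i => tri_up (hA i) (b i)
      rwa [h3] at h1
  have hmax : ∀ R : Subgroup G, IsPGroup 2 R → LS M ≤ R → R ≤ uni M → R = LS M := by
    intro R hR h1 h2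
    refine LS_max q.h.le hR h1 fun x hx => ?_
    obtain ⟨h3, b, hb⟩ := h2 hx
    exact ⟨h3, _, hb⟩
  obtain ⟨c, ⟨hcP, b, hcb⟩, hcc⟩ := conj_sylow hLU hL'U LS_isPGroup (isPGroup_cj g LS_isPGroup) hmax (card_cj g _)
  obtain ⟨t, ht, htb⟩ := M.unip b
  have htP := q.h.le ht
  have htL : t ∈ LS M := mem_LS q.h.le ht htb
  refine ⟨t⁻¹ * c * g, mul_mem (mul_mem (inv_mem htP) hcP) hg, ?_, ?_⟩
  · rw [mem_normalizer_iff_cj, ← cj_cj, ← cj_cj, hcc]
    exact cj_eq_of_mem_normalizer (inv_mem (le_normalizer htL))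
  · have h1 := Ns.acts_mul M (mul_mem (inv_mem htP) hcP) hg (Ns.acts_mul M (inv_mem htP) hcP
      (Ns.acts_inv M htP htb) hcb) hgA
    simpa using h1

/-- elements of `P ∩ N(S^L)` normalise the set of the vectors on the lines -/
theorem norm_LV {x : G} (hx : x ∈ P) (hxN : x ∈ normalizer (LS M : Set G)) {v : G}
    (hv : v ∈ LV M) : x * v * x⁻¹ ∈ LV M := by
  refine mem_LV_of_cent q (conj_mem_zl hx hv.1) fun s hs => ?_
  have h1 : x⁻¹ * s * x ∈ LS M := by
    have := (mem_normalizer_iff.1 (inv_mem hxN) s).1 hs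
    rwa [inv_inv] at this
  have h2 := (mem_zc.1 (LV_le_zc q hv)).2.1 _ h1
  calc s * (x * v * x⁻¹) = x * ((x⁻¹ * s * x) * v) * x⁻¹ := by group
    _ = x * (v * (x⁻¹ * s * x)) * x⁻¹ := by rw [h2]
    _ = x * v * x⁻¹ * s := by group

/-- an element of `P ∩ N(S^L)` acting as `B` is upper triangular -/
theorem tri_of_norm {x : G} (hx : x ∈ P) (hxN : x ∈ normalizer (LS M : Set G))
    {B : Fin k → Matrix.SpecialLinearGroup (Fin 2) F}
    (hB : ActsSL M.e (zl (S : Subgroup G) P) (cv (S : Subgroup G) P) x B) (i : Fin k) :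
    ent (B i) 1 0 = 0 := by
  obtain ⟨v, hv, hve, hvj⟩ := Ns.exists_single (M := M) i ![1, 0]
  have h1 : v ∈ LV M := by
    refine ⟨hv, fun j => ?_⟩
    by_cases hj : j = i
    · rw [hj, hve]; rfl
    · rw [hvj j hj]; rfl
  have h2 := (norm_LV q hx hxN h1).2 i
  rw [hB.1 v hv i, hve, NatPair.ap_one'] at h2
  simpa using h2

end main

end Cfsg.Agent.Omega.IId.ThmCQ.Nsp
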