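import Cfsg.Agent.Omega.IId.Ns.HFac
import Cfsg.Agent.Omega.ThmC.FourMk

/-!
# THEOREM C with `D`, `q ≥ 4`, nonsplit: elements of `S` which commute with the torus elements (helper732)

`M : NatK F S P (zl S P) (cv S P) k`. The same facts as in `ThmCQ/SpField.lean`, modulo `D = cv S P`:

* `act_up_of`, `act_up` : `s ∈ S` fixes the factor `l` and commutes with the multiplication by `t` on the line (mod `D`):
  `s` acts as `up b` on the factor `l` (mod `D`);
* `acts_of_mod` : `s ∈ S` acts as `A ∈ SL₂(F)^k` modulo `D`: `ActsSL M.e (zl S P) (cv S P) s A` (`s` centralises `D`);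
* `acts_of_field` : both together.
-/

set_option autoImplicit false
set_option linter.unusedSectionVars false

namespace Cfsg.Agent.Omega.IId.ThmCQ.Nsp

open Subgroup Cfsg Cfsg.Agent.ZN Cfsg.Agent.ZN.ChoiceSit Cfsg.Agent.ZN.ChoiceBase Cfsg.Agent.Omega.MinPar
open Cfsg.Agent.Omega.FrameFF Cfsg.Agent.Omega.FFThm Cfsg.Agent.Lib.SL2Mat
open Cfsg.Agent.Omega.NatPair (ap ap_add ap_mul ap_one ap_inj ext2 ap_zero' ap_one' ap_inv_ap ap_ap_inv)
open Cfsg.Agent.Omega.HOne (cv_le conj_mem_zl conj_mem_cv)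
open Cfsg.Agent.Omega.IId.Cv Cfsg.Agent.Omega.IId.Ns
open Cfsg.Agent.Omega.ThmC.FourOf (eq_one_of_pow)

universe u

variable {G : Type u} [Group G] {F : Type} [Field F]

section alg

variable {S P : Subgroup G} {k : ℕ} {M : NatK F S P (zl S P) (cv S P) k}

/-- the `l`-th coordinate of `s v s⁻¹` depends only on the `l`-th coordinate of `v` -/
theorem conj_congr {s : G} (hs : s ∈ P) {l : Fin k} (hsl : Mv M s l l) {v w : G} (hv : v ∈ zl S P) (hw : w ∈ zl S P)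
    (h : M.e v l = M.e w l) : M.e (s * v * s⁻¹) l = M.e (s * w * s⁻¹) l := by
  have h1 : M.e (v * w⁻¹) l = 0 := by rw [e_div M hv hw, Pi.sub_apply, h, sub_self]
  have h2 := (hsl _ (mul_mem hv (inv_mem hw))).2 h1
  have e : s * (v * w⁻¹) * s⁻¹ = (s * v * s⁻¹) * (s * w * s⁻¹)⁻¹ := by group
  rw [e, e_div M (conj_mem_zl hs hv) (conj_mem_zl hs hw), Pi.sub_apply, sub_eq_zero] at h2
  exact h2

/-- semilinearity -/
theorem exists_tau [Finite F] {s : G} (hs : s ∈ P) {l : Fin k} (hsl : Mv M s l l) :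
    ∃ τ : F ≃+* F, ∀ v ∈ zl S P, ∀ w ∈ zl S P, ∀ c : F, M.e w l = c • M.e v l →
      M.e (s * w * s⁻¹) l = τ c • M.e (s * v * s⁻¹) l := by
  classical
  have hs' : s⁻¹ ∈ P := inv_mem hs
  have hsl' : Mv M s⁻¹ l l := hsl.inv hs
  choose u hu hue using fun x : Fin 2 → F => exists_single (M := M) l x
  have hue' : ∀ x, M.e (u x) l = x := fun x => (hue x).1
  let T : (Fin 2 → F) → (Fin 2 → F) := fun x => M.e (s * u x * s⁻¹) l
  let T' : (Fin 2 → F) → (Fin 2 → F) := fun x => M.e (s⁻¹ * u x * s⁻¹⁻¹) l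
  have hT : ∀ v ∈ zl S P, T (M.e v l) = M.e (s * v * s⁻¹) l := fun v hv =>
    conj_congr hs hsl (hu _) hv (hue' _)
  have hT' : ∀ v ∈ zl S P, T' (M.e v l) = M.e (s⁻¹ * v * s⁻¹⁻¹) l := fun v hv =>
    conj_congr hs' hsl' (hu _) hv (hue' _)
  have hadd : ∀ x y, T (x + y) = T x + T y := by
    intro x y
    have h1 : M.e (u x * u y) l = x + y := by
      rw [M.mul _ (hu x) _ (hu y), Pi.add_apply, hue', hue']
    have h2 := hT _ (mul_mem (hu x) (hu y))
    rw [h1] at h2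
    have h3 : s * (u x * u y) * s⁻¹ = (s * u x * s⁻¹) * (s * u y * s⁻¹) := by group
    rw [h2, h3, M.mul _ (conj_mem_zl hs (hu x)) _ (conj_mem_zl hs (hu y)), Pi.add_apply]
  have h1 : ∀ x, T' (T x) = x := by
    intro x
    have h2 := hT' _ (conj_mem_zl hs (hu x))
    change T' (T x) = _ at h2
    rw [h2]
    have h3 : s⁻¹ * (s * u x * s⁻¹) * s⁻¹⁻¹ = u x := by group
    rw [h3, hue']
  have h2 : ∀ x, T (T' x) = x := by
    intro x
    have h2 := hT _ (conj_mem_zl hs' (hu x))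
    change T (T' x) = _ at h2
    rw [h2]
    have h3 : s * (s⁻¹ * u x * s⁻¹⁻¹) * s⁻¹ = u x := by group
    rw [h3, hue']
  have hn : ∀ A : Matrix.SpecialLinearGroup (Fin 2) F, ∃ B : Matrix.SpecialLinearGroup (Fin 2) F,
      ∀ x, T' (ap A (T x)) = ap B x := by
    intro A
    obtain ⟨h, hh, hA, -⟩ := M.lift (one1 l A)
    obtain ⟨B, hB⟩ := M.norm s⁻¹ hs' h hh _ hA
    refine ⟨B l, fun x => ?_⟩
    have h3 := hB (u x) (hu x) l
    rw [hue'] at h3
    rw [← h3]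
    have h4 : ap A (T x) = M.e (h * (s * u x * s⁻¹) * h⁻¹) l := by
      rw [hA _ (conj_mem_zl hs (hu x)) l, one1_same]
    rw [h4, hT' _ (conj_mem_zl hh (conj_mem_zl hs (hu x)))]
    have e : s⁻¹ * (h * (s * u x * s⁻¹) * h⁻¹) * s⁻¹⁻¹ = s⁻¹ * h * s⁻¹⁻¹ * u x * (s⁻¹ * h * s⁻¹⁻¹)⁻¹ := by group
    rw [e]
  obtain ⟨σ, hσ⟩ := NatPair.exists_semi T T' hadd h1 h2 hn
  obtain ⟨τ, hτ⟩ := NatPair.exists_ringEquiv T T' hadd h1 σ hσ
  refine ⟨τ, fun v hv w hw c hc => ?_⟩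
  rw [← hT v hv, ← hT w hw, hc, hτ]

theorem Mv_pow {s : G} (hs : s ∈ P) {l : Fin k} (hsl : Mv M s l l) (j : ℕ) : Mv M (s ^ j) l l := by
  induction j with
  | zero =>
    intro v _
    rw [pow_zero, one_mul, inv_one, mul_one]
  | succ j ih => rw [pow_succ]; exact ih.mul hsl hs

/-- powers -/
theorem tau_pow {s : G} (hs : s ∈ P) {l : Fin k} {τ : F ≃+* F}
    (hτ : ∀ v ∈ zl S P, ∀ w ∈ zl S P, ∀ c : F, M.e w l = c • M.e v l →
      M.e (s * w * s⁻¹) l = τ c • M.e (s * v * s⁻¹) l) (j : ℕ) :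
    ∀ v ∈ zl S P, ∀ w ∈ zl S P, ∀ c : F, M.e w l = c • M.e v l →
      M.e (s ^ j * w * (s ^ j)⁻¹) l = (τ ^ j) c • M.e (s ^ j * v * (s ^ j)⁻¹) l := by
  induction j with
  | zero =>
    intro v _ w _ c hc
    simp only [pow_zero, one_mul, inv_one, mul_one]
    exact hc
  | succ j ih =>
    intro v hv w hw c hc
    have hj : s ^ j ∈ P := pow_mem hs j
    have h1 := hτ _ (conj_mem_zl hj hv) _ (conj_mem_zl hj hw) _ (ih v hv w hw c hc)
    have e1 : ∀ x : G, s ^ (j + 1) * x * (s ^ (j + 1))⁻¹ = s * (s ^ j * x * (s ^ j)⁻¹) * s⁻¹ := fun x => by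
      rw [pow_succ']
      group
    rw [e1, e1, h1, pow_succ']
    rfl

/-- **The field automorphism.** `t ∈ F` is not fixed by a nontrivial automorphism of 2-power order, `s ∈ S` fixes the
factor `l` and commutes (modulo `D`) on the line with the multiplication by `t`: `s` acts as a root element on the
factor `l` of `V / D`. -/
theorem act_up_of [Finite F] [CharP F 2] (hSP : S ≤ P) (hS : IsPGroup 2 S) {t : F}
    (ht : ∀ (τ : F ≃+* F) (n : ℕ), τ ^ 2 ^ n = 1 → τ t = t → τ = 1) {s : G} (hs : s ∈ S) {l : Fin k}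
    (hsl : Mv M s l l)
    (hst : ∀ v ∈ zl S P, ∀ w ∈ zl S P, (∀ j, j ≠ l → M.e v j = 0) → (∀ j, j ≠ l → M.e w j = 0) → M.e v l 1 = 0 →
      M.e w l = t • M.e v l → M.e (s * w * s⁻¹) l = t • M.e (s * v * s⁻¹) l) :
    ∃ b : F, ∀ v ∈ zl S P, M.e (s * v * s⁻¹) l = ap (up b) (M.e v l) := by
  classical
  have hsP := hSP hs
  obtain ⟨τ, hτ⟩ := exists_tau (M := M) hsP hsl
  -- the order of `τ`
  obtain ⟨n, hn⟩ := hS ⟨s, hs⟩
  have hn' : s ^ 2 ^ n = 1 := congrArg Subtype.val hn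
  have hτn : τ ^ 2 ^ n = 1 := by
    ext c
    obtain ⟨v, hv, hve, -⟩ := exists_single (M := M) l ![1, 0]
    obtain ⟨w, hw, hwe, -⟩ := exists_single (M := M) l (c • ![1, 0])
    have h1 := tau_pow hsP hτ (2 ^ n) v hv w hw c (by rw [hve, hwe])
    rw [hn', one_mul, one_mul, inv_one, mul_one, mul_one, hve, hwe] at h1
    have h2 := congrFun h1 0
    simpa using h2.symm
  have hline : ∀ v ∈ zl S P, M.e v l 1 = 0 → M.e (s * v * s⁻¹) l 1 = 0 := fun v hv h0 =>
    (IId.Ns.conj_line hSP hs hsl hv).2 h0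
  obtain ⟨v, hv, hve, hvj⟩ := exists_single (M := M) l ![1, 0]
  have hvl : M.e v l 1 = 0 := by rw [hve]; rfl
  have hsv0 : M.e (s * v * s⁻¹) l 0 ≠ 0 := by
    intro h0
    have h1 := hline v hv hvl
    have h2 : M.e (s * v * s⁻¹) l = 0 := ext2 h0 h1
    have h3 := (hsl v hv).1 h2
    rw [hve] at h3
    exact one_ne_zero (congrFun h3 0)
  have hτt : τ t = t := by
    obtain ⟨w, hw, hwe, hwj⟩ := exists_single (M := M) l (t • ![1, 0])
    have h1 := hτ v hv w hw t (by rw [hve, hwe])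
    have h2 := hst v hv w hw hvj hwj hvl (by rw [hve, hwe])
    rw [h2] at h1
    have h3 := congrFun h1 0
    exact (mul_right_cancel₀ hsv0 h3).symm
  have hτ1 := ht τ n hτn hτt
  subst hτ1
  have hlin : ∀ v ∈ zl S P, ∀ w ∈ zl S P, ∀ c : F, M.e w l = c • M.e v l →
      M.e (s * w * s⁻¹) l = c • M.e (s * v * s⁻¹) l := hτ
  -- the image of `(1, 0)`
  obtain ⟨c, hce⟩ : ∃ c, M.e (s * v * s⁻¹) l = ![c, 0] := by
    refine ⟨M.e (s * v * s⁻¹) l 0, ?_⟩
    apply ext2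
    · rfl
    · exact hline v hv hvl
  have hcpow : ∀ j : ℕ, M.e (s ^ j * v * (s ^ j)⁻¹) l = ![c ^ j, 0] := by
    intro j
    induction j with
    | zero => simpa using hve
    | succ j ih =>
      have e1 : s ^ (j + 1) * v * (s ^ (j + 1))⁻¹ = s * (s ^ j * v * (s ^ j)⁻¹) * s⁻¹ := by
        rw [pow_succ']
        group
      rw [e1, hlin v hv _ (conj_mem_zl (pow_mem hsP j) hv) (c ^ j) (by
        rw [ih, hve]
        apply ext2 <;> simp), hce]
      apply ext2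
      · simp [pow_succ]
      · simp
  have hc1 : c = 1 := by
    have h1 := congrFun (hcpow (2 ^ n)) 0
    rw [hn', one_mul, inv_one, mul_one, hve] at h1
    exact eq_one_of_pow h1.symm
  rw [hc1] at hce
  -- the image of `(0, 1)`
  obtain ⟨w, hw, hwe, -⟩ := exists_single (M := M) l ![0, 1]
  obtain ⟨b, d, hbd⟩ : ∃ b d, M.e (s * w * s⁻¹) l = ![b, d] :=
    ⟨_, _, ext2 (x := M.e (s * w * s⁻¹) l) (y := ![M.e (s * w * s⁻¹) l 0, M.e (s * w * s⁻¹) l 1]) rfl rfl⟩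
  -- the general formula
  have hgen : ∀ x ∈ zl S P, M.e (s * x * s⁻¹) l = ![M.e x l 0 + b * M.e x l 1, d * M.e x l 1] := by
    intro x hx
    obtain ⟨x0, hx0, hx0e, -⟩ := exists_single (M := M) l (M.e x l 0 • ![1, 0])
    obtain ⟨x1, hx1, hx1e, -⟩ := exists_single (M := M) l (M.e x l 1 • ![0, 1])
    have h1 : M.e x l = M.e (x0 * x1) l := by
      rw [M.mul _ hx0 _ hx1, Pi.add_apply, hx0e, hx1e]
      apply ext2 <;> simp
    have h2 : s * (x0 * x1) * s⁻¹ = (s * x0 * s⁻¹) * (s * x1 * s⁻¹) := by group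
    rw [conj_congr hsP hsl hx (mul_mem hx0 hx1) h1, h2, M.mul _ (conj_mem_zl hsP hx0) _ (conj_mem_zl hsP hx1),
      Pi.add_apply, hlin v hv x0 hx0 (M.e x l 0) (by rw [hx0e, hve]), hlin w hw x1 hx1 (M.e x l 1) (by rw [hx1e, hwe]),
      hce, hbd]
    apply ext2
    · simp; ring
    · simp; ring
  have hdpow : ∀ j : ℕ, M.e (s ^ j * w * (s ^ j)⁻¹) l 1 = d ^ j := by
    intro j
    induction j with
    | zero => simp [hwe]
    | succ j ih =>
      have e1 : s ^ (j + 1) * w * (s ^ (j + 1))⁻¹ = s * (s ^ j * w * (s ^ j)⁻¹) * s⁻¹ := by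
        rw [pow_succ']
        group
      rw [e1, hgen _ (conj_mem_zl (pow_mem hsP j) hw)]
      change d * M.e (s ^ j * w * (s ^ j)⁻¹) l 1 = _
      rw [ih, pow_succ']
  have hd1 : d = 1 := by
    have h1 := hdpow (2 ^ n)
    rw [hn', one_mul, inv_one, mul_one, hwe] at h1
    exact eq_one_of_pow h1.symm
  refine ⟨b, fun x hx => ?_⟩
  rw [hgen x hx, hd1]
  apply ext2
  · rw [ap_zero', up_00, up_01]; simp
  · rw [ap_one', up_10, up_11]; simp

end alg

section main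

variable [Finite G] [CharP F 2] (hG : IsCharacteristicTwoType G) (S : Sylow 2 G) {P : Subgroup G}
  (h : IsParS (S : Subgroup G) P) {k : ℕ} (hk : 0 < k)
  {M : NatK F (S : Subgroup G) P (zl (S : Subgroup G) P) (cv (S : Subgroup G) P) k}

omit h in
/-- the literal form of helper914 -/
theorem act_up [Finite F] (hSP : (S : Subgroup G) ≤ P) {t : F}
    (ht : ∀ (τ : F ≃+* F) (n : ℕ), τ ^ 2 ^ n = 1 → τ t = t → τ = 1) {s : G} (hs : s ∈ (S : Subgroup G)) {l : Fin k}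
    (hm : Mv M s l l)
    (hst : ∀ v ∈ zl (S : Subgroup G) P, ∀ w ∈ zl (S : Subgroup G) P, M.e v l 1 = 0 → M.e w l = t • M.e v l →
      M.e (s * w * s⁻¹) l = t • M.e (s * v * s⁻¹) l) :
    ∃ b : F, ∀ v ∈ zl (S : Subgroup G) P, M.e (s * v * s⁻¹) l = ap (up b) (M.e v l) :=
  act_up_of (M := M) hSP S.isPGroup' ht hs hm fun v hv w hw _ _ h0 hc => hst v hv w hw h0 hc

include hG h hk in
/-- an element of `S` which acts as an element of `SL₂(F)^k` on `V / D` centralises `D` -/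
theorem acts_of_mod {s : G} (hs : s ∈ (S : Subgroup G)) {b : Fin k → F}
    (hA : ∀ v ∈ zl (S : Subgroup G) P, ∀ i, M.e (s * v * s⁻¹) i = ap (up (b i)) (M.e v i)) :
    ActsSL M.e (zl (S : Subgroup G) P) (cv (S : Subgroup G) P) s fun i => up (b i) := by
  have hsP : s ∈ P := h.le hs
  refine ⟨hA, fun d hd => ?_⟩
  obtain ⟨t, ht, htb⟩ := M.unip b
  have htP : t ∈ P := h.le ht
  have h1 : s * t⁻¹ ∈ kern M := by
    refine ⟨mul_mem hsP (inv_mem htP), fun v hv => funext fun i => ?_⟩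
    have e : s * t⁻¹ * v * (s * t⁻¹)⁻¹ = s * (t⁻¹ * v * t⁻¹⁻¹) * s⁻¹ := by group
    have h2 := (IId.Ns.acts_inv M htP htb).1 v hv i
    rw [e, hA _ (conj_mem_zl (inv_mem htP) hv) i, h2, ap_ap_inv]
  have h2 := comm_of_quot hG S h M hk (mul_mem hs (inv_mem ht)) h1 d (cv_le _ _ hd)
  have h3 := htb.2 d hd
  calc s * d = s * t⁻¹ * (t * d) := by group
    _ = s * t⁻¹ * d * t := by rw [h3]; group
    _ = d * (s * t⁻¹) * t := by rw [h2]
    _ = d * s := by group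

include hG h hk in
/-- **`C_S(D^) ≤ S^L`**: `s ∈ S` fixes all factors and commutes (modulo `D`) on all lines with the multiplication by `t`:
`s` acts as a root element on all factors and centralises `D`. -/
theorem acts_of_field [Finite F] {t : F}
    (ht : ∀ (τ : F ≃+* F) (n : ℕ), τ ^ 2 ^ n = 1 → τ t = t → τ = 1) {s : G} (hs : s ∈ (S : Subgroup G))
    (hsl : ∀ l, Mv M s l l)
    (hst : ∀ l, ∀ v ∈ zl (S : Subgroup G) P, ∀ w ∈ zl (S : Subgroup G) P, (∀ j, j ≠ l → M.e v j = 0) →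
      (∀ j, j ≠ l → M.e w j = 0) → M.e v l 1 = 0 → M.e w l = t • M.e v l →
      M.e (s * w * s⁻¹) l = t • M.e (s * v * s⁻¹) l) :
    ∃ b : Fin k → F, ActsSL M.e (zl (S : Subgroup G) P) (cv (S : Subgroup G) P) s fun i => up (b i) := by
  choose b hb using fun l => act_up_of (M := M) h.le S.isPGroup' ht hs (hsl l) (hst l)
  exact ⟨b, acts_of_mod hG S h hk hs fun v hv i => hb i v hv⟩

end main

end Cfsg.Agent.Omega.IId.ThmCQ.Nsp
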