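import Cfsg.Agent.Omega.IId.ThmCQ.SpMk
import Cfsg.Agent.Omega.IId.ThmCQ.Fix

/-!
# THEOREM C with `D`, `q ≥ 4`, `V_P = V × D`: the statements (helper732; `DatD.main` : helper286)

`M : NatD F S P V D k`, `4 ≤ |F|`, `W_i := O₂(N_G(line i))`:

* `o2_line_le_cent` : `W_i` centralises `Ω₁ Z(S^L)`;
* `o2_line_le_cent_D`, `o2_line_le_cent_line` : `W_i` centralises `D` and all lines;
* `ccD` : `W_i` centralises the factors `l ≠ i`;
* `o2_line_le_S` : `W_i ≤ S`.
-/

set_option autoImplicit false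
set_option linter.unusedSectionVars false

namespace Cfsg.Agent.Omega.IId.ThmCQ

open Subgroup Cfsg Cfsg.Agent.ZN Cfsg.Agent.ZN.ChoiceBase Cfsg.Agent.Omega.IId

universe u

variable {G : Type u} [Group G] [Finite G] {F : Type} [Field F] [Finite F] [CharP F 2] {S : Sylow 2 G}
  {P V D : Subgroup G} {k : ℕ}

/-- **THEOREM C with `D`**, `q ≥ 4`: `O₂(N_G(line i))` centralises `Ω₁ Z(S^L)`. -/
theorem o2_line_le_cent (M : NatD F S P V D k) (hF : 4 ≤ Nat.card F) (i : Fin k) :
    o2 (normalizer (NV.line M.toNatV i : Set G)) ≤ centralizer (zc (Sp.LS M) : Set G) := by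
  obtain ⟨t, p, h, T⟩ := Sp.exists_tor (M := M) hF
  exact T.dat.main i

theorem o2_line_le_cent_D (M : NatD F S P V D k) (hF : 4 ≤ Nat.card F) (i : Fin k) :
    o2 (normalizer (NV.line M.toNatV i : Set G)) ≤ centralizer (D : Set G) :=
  (o2_line_le_cent M hF i).trans (centralizer_le Sp.D_le_zc)

theorem o2_line_le_cent_line (M : NatD F S P V D k) (hF : 4 ≤ Nat.card F) (i l : Fin k) :
    o2 (normalizer (NV.line M.toNatV i : Set G)) ≤ centralizer (NV.line M.toNatV l : Set G) :=
  (o2_line_le_cent M hF i).trans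
    (centralizer_le ((NV.lines_mono M.toNatV (Set.subset_univ _)).trans Sp.lines_le_zc))

/-- **THEOREM C with `D`**, `q ≥ 4`: `O₂(N_G(line i))` centralises the factors `l ≠ i`. -/
theorem ccD (M : NatD F S P V D k) (hF : 4 ≤ Nat.card F) {i l : Fin k} (hli : l ≠ i) :
    NV.fac M.toNatV l ≤ centralizer (o2 (normalizer (NV.line M.toNatV i : Set G)) : Set G) :=
  Sp.ccD_of M (o2_line_le_cent M hF) hli

/-- A 2-subgroup normalised by `S` is contained in `S`. -/
theorem le_sylow {S : Sylow 2 G} {X : Subgroup G} (hX : IsPGroup 2 X) (hn : (S : Subgroup G) ≤ normalizer (X : Set G)) :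
    X ≤ S := by
  have : Fact (Nat.Prime 2) := ⟨Nat.prime_two⟩
  have h1 : IsPGroup 2 (X ⊔ (S : Subgroup G) : Subgroup G) :=
    IsPGroup.to_sup_of_normal_left' hX S.isPGroup' hn
  have h2 : X ⊔ (S : Subgroup G) = S := S.is_maximal' h1 le_sup_right
  rw [← h2]
  exact le_sup_left

/-- `O₂(N_G(line i)) ≤ S` -/
theorem o2_line_le_S (M : NatD F S P V D k) (hF : 4 ≤ Nat.card F) (i : Fin k) :
    o2 (normalizer (NV.line M.toNatV i : Set G)) ≤ (S : Subgroup G) := by
  set E := zc (Sp.LS M) with hE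
  have h1 := o2_line_le_cent M hF i
  have hlE : NV.line M.toNatV i ≤ E := (NV.lines_mono M.toNatV (Set.subset_univ _)).trans Sp.lines_le_zc
  have h2 : centralizer (E : Set G) ≤ normalizer (NV.line M.toNatV i : Set G) :=
    (centralizer_le hlE).trans (centralizer_le_normalizer _)
  have h3 : o2 (normalizer (NV.line M.toNatV i : Set G)) ≤ o2 (centralizer (E : Set G)) :=
    MinSimple.VModule.le_o2 h1 (MinSimple.VModule.o2_isPGroup _) (h2.trans (MinSimple.VModule.le_normalizer_o2 _))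
  refine h3.trans (le_sylow (MinSimple.VModule.o2_isPGroup _) ?_)
  have h4 : (S : Subgroup G) ≤ normalizer (E : Set G) :=
    Sp.S_le_normalizer_LS.trans (MinSimple.VModule.normalizer_le_normalizer_zc _)
  refine h4.trans ?_
  intro g hg
  rw [mem_normalizer_iff_cj, ← ChoiceSit.o2_cj, cj_centralizer, cj_eq_of_mem_normalizer hg]

end Cfsg.Agent.Omega.IId.ThmCQ
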