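import Cfsg.Agent.Omega.IId.ThmCQ.NsMk
import Cfsg.Agent.Omega.IId.ThmCQ.Split
import Cfsg.Agent.Omega.HOne.NSPair

/-!
# THEOREM C with `D`, `q ≥ 4`, `V_P` any (nonsplit included): the statements

`M : NatK F S P (zl S P) (cv S P) k`, `4 ≤ |F|`, `W_i := O₂(N_G(Zf M i))`:

* `o2_Zf_le_cent` : `W_i` centralises `Ω₁ Z(S^L)`;
* `o2_Zf_le_LS` : `W_i ≤ S^L`;
* `Nc_le_zc` : `Nc M l ≤ Ω₁ Z(W_i)`, `l ≠ i`;
* `Nc_le_zc_cent` : `Nc M l ≤ Ω₁ Z(O₂(C_G(Zf M i)))`, `l ≠ i`;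
* `mem_Zf_iff_form` : `Zf M i = e(F)`;
* `exists_elt` : an `r`-element acting as `dg t` in the `l`-th factor, `t` of order `r`.
-/

set_option autoImplicit false
set_option linter.unusedSectionVars false
set_option linter.unusedVariables false

namespace Cfsg.Agent.Omega.IId.ThmCQ.Nsp

open Subgroup Cfsg Cfsg.Agent.ZN Cfsg.Agent.Omega.IId Cfsg.Agent.Omega.ThmC.Four
open Cfsg.Agent.ZN.ChoiceSit hiding zc_le zc_le_zl
open Cfsg.Agent.ZN.ChoiceBase hiding mem_zc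
open Cfsg.Agent.Omega.MinPar Cfsg.Agent.Omega.FrameFF Cfsg.Agent.Omega.FFThm
open Cfsg.Agent.MinSimple.VModule (le_normalizer_zl mem_zc zc_le zc_le_zl)
open Cfsg.Agent.Lib.SL2Mat
open Cfsg.Agent.Omega.NatPair (ap ap_mul ap_one ap_inv_ap ap_ap_inv exists_ap ap_add ap_inj ap_smul)
open Cfsg.Agent.Omega.ThmC.FourOf (dg_pow)
open Cfsg.Agent.Omega.HOne (cv_le conj_mem_zl conj_mem_cv)
open Cfsg.Agent.Omega.IId.Cv (e_div eq_iff e_cv e_mul_cv)
open Cfsg.Agent.Omega.IId.Ns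

universe u

/-! ### 2-groups -/

section gen

variable {G : Type u} [Group G] [Finite G]

/-- `O₂(N(Z)) ∩ C(Z) ≤ O₂(C(Z))` -/
theorem o2_norm_inf_cent_le (Z : Subgroup G) :
    o2 (normalizer (Z : Set G)) ⊓ centralizer (Z : Set G) ≤ o2 (centralizer (Z : Set G)) := by
  refine MinSimple.VModule.le_o2 inf_le_right ((MinSimple.VModule.o2_isPGroup _).to_le inf_le_left) ?_
  intro g hg
  have h1 : g ∈ normalizer (Z : Set G) := centralizer_le_normalizer _ hg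
  have h2 : g ∈ normalizer (centralizer (Z : Set G) : Set G) := by
    rw [mem_normalizer_iff_cj, cj_centralizer, cj_eq_of_mem_normalizer h1]
  rw [mem_normalizer_iff_cj, cj_inf, cj_eq_of_mem_normalizer (MinSimple.VModule.le_normalizer_o2 _ h1),
    cj_eq_of_mem_normalizer h2]

/-- `O₂(C(Z)) ≤ O₂(N(Z))` -/
theorem o2_cent_le_o2_norm (Z : Subgroup G) : o2 (centralizer (Z : Set G)) ≤ o2 (normalizer (Z : Set G)) := by
  refine MinSimple.VModule.le_o2 ((MinSimple.VModule.o2_le _).trans (centralizer_le_normalizer _))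
    (MinSimple.VModule.o2_isPGroup _) ?_
  intro g hg
  rw [mem_normalizer_iff_cj, ← ChoiceSit.o2_cj, cj_centralizer, cj_eq_of_mem_normalizer hg]

/-- `A ≤ Ω₁ Z(O₂(N(Z)))`, `A ≤ C(Z)` ==> `A ≤ Ω₁ Z(O₂(C(Z)))` -/
theorem zc_cent_of_norm {Z A : Subgroup G} (hA : A ≤ zc (o2 (normalizer (Z : Set G))))
    (hAZ : A ≤ centralizer (Z : Set G)) : A ≤ zc (o2 (centralizer (Z : Set G))) := by
  intro a ha
  have h1 := mem_zc.1 (hA ha)
  exact mem_zc.2 ⟨o2_norm_inf_cent_le Z ⟨h1.1, hAZ ha⟩, fun x hx => h1.2.1 x (o2_cent_le_o2_norm Z hx), h1.2.2⟩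

end gen

section main

variable {G : Type u} [Group G] [Finite G] {F : Type} [Field F] [Finite F] [CharP F 2] {S : Sylow 2 G}
  {P : Subgroup G} {k : ℕ} {M : NatK F (S : Subgroup G) P (zl (S : Subgroup G) P) (cv (S : Subgroup G) P) k}
  (q : Sit F S P k)

include q

/-- **THEOREM C with `D`**, `q ≥ 4`: `O₂(N_G(Zf M i))` centralises `Ω₁ Z(S^L)`. -/
theorem o2_Zf_le_cent (i : Fin k) : o2 (normalizer (Zf M i : Set G)) ≤ centralizer (zc (LS M) : Set G) := by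
  obtain ⟨t, p, h, T⟩ := exists_tor (M := M) q
  exact (T.dat q).main i

/-- `O₂(N_G(Zf M i)) ≤ S` -/
theorem o2_Zf_le_S (i : Fin k) : o2 (normalizer (Zf M i : Set G)) ≤ (S : Subgroup G) := by
  set E := zc (LS M) with hE
  have h1 := o2_Zf_le_cent q (M := M) i
  have hlE : Zf M i ≤ E := Zf_le_zc q i
  have h2 : centralizer (E : Set G) ≤ normalizer (Zf M i : Set G) :=
    (centralizer_le hlE).trans (centralizer_le_normalizer _)
  have h3 : o2 (normalizer (Zf M i : Set G)) ≤ o2 (centralizer (E : Set G)) :=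
    MinSimple.VModule.le_o2 h1 (MinSimple.VModule.o2_isPGroup _) (h2.trans (MinSimple.VModule.le_normalizer_o2 _))
  refine h3.trans (ThmCQ.le_sylow (MinSimple.VModule.o2_isPGroup _) ?_)
  have h4 : (S : Subgroup G) ≤ normalizer (E : Set G) :=
    (S_le_normalizer_LS q.h.le).trans (MinSimple.VModule.normalizer_le_normalizer_zc _)
  refine h4.trans ?_
  intro g hg
  rw [mem_normalizer_iff_cj, ← ChoiceSit.o2_cj, cj_centralizer, cj_eq_of_mem_normalizer hg]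

/-- elements of `S` centralising `Ω₁ Z(S^L)` are in `S^L` -/
theorem mem_LS_of_cent_zc {s : G} (hs : s ∈ (S : Subgroup G)) (hc : s ∈ centralizer (zc (LS M) : Set G)) :
    s ∈ LS M := by
  obtain ⟨t, p, h, T⟩ := exists_tor (M := M) q
  refine (T.dat q).field s hs fun l e he => ?_
  have h1 : h l * e * (h l)⁻¹ ∈ zc (LS M) :=
    (mem_normalizer_iff.1 (MinSimple.VModule.normalizer_le_normalizer_zc _ (T.nor l)) e).1 he
  have h2 := mem_centralizer_iff.1 hc _ h1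
  have h3 := mem_centralizer_iff.1 hc _ he
  calc s * h l * e * (s * h l)⁻¹ = s * (h l * e * (h l)⁻¹) * s⁻¹ := by group
    _ = h l * e * (h l)⁻¹ := by rw [← h2]; group
    _ = h l * (e * s) * s⁻¹ * (h l)⁻¹ := by group
    _ = h l * (s * e) * s⁻¹ * (h l)⁻¹ := by rw [h3]
    _ = _ := by group

/-- `O₂(N_G(Zf M i)) ≤ S^L` -/
theorem o2_Zf_le_LS (i : Fin k) : o2 (normalizer (Zf M i : Set G)) ≤ LS M := fun _ hx =>
  mem_LS_of_cent_zc q (o2_Zf_le_S q i hx) (o2_Zf_le_cent q i hx)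

/-- the elements of `S^L` fix the factors -/
theorem LS_le_Tc (i : Fin k) : LS M ≤ Tc M i := by
  intro s hs
  obtain ⟨-, hsP, A, hA⟩ := id hs
  exact ⟨⟨LS_le hs, hsP⟩, fun v hv => by rw [hA.1 v hv i, Ns.ap_eq_zero]⟩

theorem o2_Zf_le_cent_D (i : Fin k) : o2 (normalizer (Zf M i : Set G)) ≤ centralizer (cv (S : Subgroup G) P : Set G) :=
  (o2_Zf_le_cent q i).trans (centralizer_le (D_le_zc q))

theorem o2_Zf_comm_LV (i : Fin k) {w v : G} (hw : w ∈ o2 (normalizer (Zf M i : Set G))) (hv : v ∈ LV M) :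
    w * v = v * w := (mem_centralizer_iff.1 (o2_Zf_le_cent q i hw) v (LV_le_zc q hv)).symm

/-- `N_l` is generated by the conjugates of `Zf M l` under `Fc M l`. -/
theorem Nc_le_closure (l : Fin k) : Nc M l ≤ closure {y | ∃ g ∈ Fc M l, ∃ z ∈ Zf M l, y = g * z * g⁻¹} := by
  set K : Subgroup G := closure {y | ∃ g ∈ Fc M l, ∃ z ∈ Zf M l, y = g * z * g⁻¹} with hK
  rw [Nc, closure_le]
  rintro _ ⟨x, hx, v, hv, rfl⟩
  obtain ⟨A, hA⟩ := exists_of_Fc hx
  by_cases h0 : M.e v l = 0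
  · have h1 := fix_ker q.hG S q.h q.hk q.hF hA hv h0
    rw [h1, mul_inv_cancel]
    exact one_mem K
  · obtain ⟨z, hz, hze⟩ := exists_Zf q (M := M) l 1
    have hne : (![1, 0] : Fin 2 → F) ≠ 0 := fun h => by
      have := congrFun h 0
      simp at this
    obtain ⟨B, hB⟩ := exists_ap hne h0
    obtain ⟨g, hg⟩ := exists_Al M l B
    have hzV := Zf_le_V l hz
    have h2 : M.e (g * z * g⁻¹) l = M.e v l := by rw [hg.same hzV, hze, hB]
    have hκV := hg.V hzV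
    have h3 : M.e (v * (g * z * g⁻¹)⁻¹) l = 0 := by rw [e_div M hv hκV, Pi.sub_apply, h2, sub_self]
    have hdV : v * (g * z * g⁻¹)⁻¹ ∈ zl (S : Subgroup G) P := mul_mem hv (inv_mem hκV)
    have h4 := fix_ker q.hG S q.h q.hk q.hF hA hdV h3
    have h5 := comm_mul q hA.1 hdV hκV
    rw [inv_mul_cancel_right, h4, mul_inv_cancel, one_mul] at h5
    rw [h5]
    refine mul_mem (subset_closure ⟨x * g, mul_mem hx hg.mem_Fc, z, hz, by group⟩)
      (inv_mem (subset_closure ⟨g, hg.mem_Fc, z, hz, rfl⟩))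

/-- `O₂(N_G(Zf M i))` centralises `Nc M l`, `l ≠ i` -/
theorem Nc_le_cent {i l : Fin k} (hli : l ≠ i) :
    Nc M l ≤ centralizer (o2 (normalizer (Zf M i : Set G)) : Set G) := by
  refine (Nc_le_closure q l).trans ?_
  rw [closure_le]
  rintro _ ⟨g, hg, z, hz, rfl⟩
  rw [SetLike.mem_coe, mem_centralizer_iff]
  intro w hw
  obtain ⟨B, hB⟩ := exists_of_Fc hg
  have hgN : g ∈ normalizer (Zf M i : Set G) := centralizer_le_normalizer _ (mem_centralizer_iff.2 fun y hy =>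
    (Al_comm_Nc q (Ne.symm hli) hB (Zf_le i hy)).symm)
  have hgW := MinSimple.VModule.le_normalizer_o2 _ hgN
  have hw' : g⁻¹ * w * g ∈ o2 (normalizer (Zf M i : Set G)) := by
    have := (mem_normalizer_iff.1 (inv_mem hgW) w).1 hw
    rwa [inv_inv] at this
  have h2 := o2_Zf_comm_LV q i hw' (Zf_LV q hz)
  calc w * (g * z * g⁻¹) = g * ((g⁻¹ * w * g) * z) * g⁻¹ := by group
    _ = g * (z * (g⁻¹ * w * g)) * g⁻¹ := by rw [h2]
    _ = g * z * g⁻¹ * w := by group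

theorem Zf_isPGroup (i : Fin k) : IsPGroup 2 (Zf M i) :=
  S.isPGroup'.to_le ((Zf_le_V i).trans (V_le_S q))

theorem Nc_le_normalizer (i l : Fin k) : Nc M l ≤ centralizer (Zf M i : Set G) := by
  intro n hn
  rw [mem_centralizer_iff]
  exact fun z hz => V_comm q (Zf_le_V i hz) (Nc_le_zl l hn)

/-- **`Nc M l ≤ Ω₁ Z(O₂(N_G(Zf M i)))`, `l ≠ i`** -/
theorem Nc_le_zc {i l : Fin k} (hli : l ≠ i) : Nc M l ≤ zc (o2 (normalizer (Zf M i : Set G))) := by
  have hch := MinSimple.Basic.char2_normalizer q.hG (Zf_isPGroup q i) (Zf_ne_bot q (M := M) i)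
  intro n hn
  have h1 := Nc_le_cent q hli hn
  have h2 : n ∈ o2 (normalizer (Zf M i : Set G)) :=
    hch ⟨centralizer_le_normalizer _ (Nc_le_normalizer q i l hn), h1⟩
  exact mem_zc.2 ⟨h2, fun w hw => mem_centralizer_iff.1 h1 w hw, by
    rw [pow_two]; exact V_sq q (Nc_le_zl l hn)⟩

/-- **`Nc M l ≤ Ω₁ Z(O₂(C_G(Zf M i)))`, `l ≠ i`** -/
theorem Nc_le_zc_cent {i l : Fin k} (hli : l ≠ i) : Nc M l ≤ zc (o2 (centralizer (Zf M i : Set G))) :=
  zc_cent_of_norm (Nc_le_zc q hli) (Nc_le_normalizer q i l)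

theorem o2_cent_Zf_le_Tc (i : Fin k) : o2 (centralizer (Zf M i : Set G)) ≤ Tc M i :=
  (o2_cent_le_o2_norm _).trans ((o2_Zf_le_LS q i).trans (LS_le_Tc q i))

end main

/-! ### `Zf M i = e(F)` -/

section form

open Cfsg.Agent.Omega.HOne.NSMod Cfsg.Agent.Omega.HOne.NSSide Cfsg.Agent.Omega.HOne.NSPair

/-- the torus acts on `e(F)` -/
theorem torus_e {G : Type*} [Group G] {F : Type*} [Field F] {P V D N : Subgroup G} {π : G → Fin 2 → F}
    {e f g : F → G} (r : Rig P V D π) (φ : Form P V D π e f g N) {x : G} {a : F} (ha : a ≠ 0)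
    (hx : Is P V D π x (dg a ha)) (z : F) : x * e z * x⁻¹ = e (a⁻¹ * z) := by
  obtain ⟨y, hy⟩ := r.is_lift (lo ((1 : F) ^ 2))
  have h1 := φ.act 1 y hy (f z) (φ.fV z)
  rw [φ.fπ] at h1
  have h1' : y * f z * y⁻¹ = e z * g z * f z := by simpa using h1
  have h2 := r.is_mul (r.is_mul hx hy) (r.is_inv hx)
  have e1 : dg a ha * lo ((1 : F) ^ 2) * (dg a ha)⁻¹ = lo ((a⁻¹) ^ 2) := by
    rw [mul_inv_eq_iff_eq_mul]
    apply ext_ent <;> simp [ent_mul]
    field_simp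
  rw [e1] at h2
  have hw := r.Vn x hx.mem _ (φ.fV z)
  have h3 := φ.act a⁻¹ _ h2 _ hw
  have h4 : π (x * f z * x⁻¹) 0 = a * z := by
    rw [hx.act _ (φ.fV z), φ.fπ, ap_dg]; simp
  rw [h4] at h3
  have e2 : (a⁻¹) ^ 2 * (a * z) = a⁻¹ * z := by field_simp
  have e3 : a⁻¹ * (a * z) = z := by field_simp
  rw [e2, e3] at h3
  have h5 := hx.cen _ (φ.gD z)
  have h6 : x * (y * f z * y⁻¹) * x⁻¹ = (x * y * x⁻¹) * (x * f z * x⁻¹) * (x * y * x⁻¹)⁻¹ := by group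
  rw [h1', h3] at h6
  have h7 : x * (e z * g z * f z) * x⁻¹ = (x * e z * x⁻¹) * g z * (x * f z * x⁻¹) := by
    calc x * (e z * g z * f z) * x⁻¹ = x * e z * x⁻¹ * (x * g z) * x⁻¹ * (x * f z * x⁻¹) := by group
      _ = x * e z * x⁻¹ * (g z * x) * x⁻¹ * (x * f z * x⁻¹) := by rw [h5]
      _ = _ := by group
  rw [h7] at h6
  exact mul_right_cancel (mul_right_cancel h6)

variable {G : Type u} [Group G] [Finite G] {F : Type} [Field F] [Finite F] [CharP F 2] {S : Sylow 2 G}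
  {P : Subgroup G} {k : ℕ} {M : NatK F (S : Subgroup G) P (zl (S : Subgroup G) P) (cv (S : Subgroup G) P) k}
  (q : Sit F S P k)

include q

theorem mem_Zf_iff_form {i : Fin k} {e f g : F → G} {N : Subgroup G}
    (φ : Form (Lc M i) (Nc M i) (Uc M i) (Sd.natOver q.hG S q.h M (hω q) i).e e f g N) (z : G) :
    z ∈ Zf M i ↔ ∃ y, z = e y := by
  have r := Sd.rig_of q.hG S q.h M (hω q) i
  have hπ : ∀ v, (Sd.natOver q.hG S q.h M (hω q) i).e v = Sd.pc S M i v := fun v => rfl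
  have he0 : ∀ y, M.e (e y) i 1 = 0 := by
    intro y
    have h1 := congrFun (φ.eπ y) 0
    rw [hπ, Sd.pc_zero] at h1
    simpa using h1
  -- `e(F) ≤ Zf`
  have hle : ∀ y, e y ∈ Zf M i := by
    intro y
    obtain ⟨t, ht, ht1⟩ := exists_omega q.hF
    obtain ⟨x₀, hx₀⟩ := exists_Al M i (dg t ht)
    obtain ⟨x, hxE, hxx⟩ := Sd.exists_Ec q.hG S q.h M (hω q) hx₀.mem_Fc
    obtain ⟨C, hC⟩ := exists_of_Fc hxE.1
    have hCB : C = dg t ht := ap_inj fun z => by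
      obtain ⟨v, hv, hvi, -⟩ := Ns.exists_single (M := M) i z
      rw [← hvi, ← hC.same hv, hxx v hv, hx₀.same hv]
    have hx : Al M i x (dg t ht) := hC.of_eq hCB
    have hxL : x ∈ Lc M i := (le_sup_right : Ec M i ≤ Lc M i) hxE
    have h1 := Sd.is_of_acts q.hG S q.h M (hω q) hxL hx.2
    have e1 : wm (1 : F) one_ne_zero * dg t ht * (wm 1 one_ne_zero)⁻¹ = dg t⁻¹ (inv_ne_zero ht) := by
      rw [mul_inv_eq_iff_eq_mul]
      apply ext_ent <;> simp [ent_mul]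
    rw [e1] at h1
    have ht2 : t - 1 ≠ 0 := sub_ne_zero.2 ht1
    have h2 := torus_e r φ (inv_ne_zero ht) h1 (y / (t - 1))
    rw [inv_inv] at h2
    have h3 : x * e (y / (t - 1)) * x⁻¹ * (e (y / (t - 1)))⁻¹ = e y := by
      rw [h2]
      have h4 : t * (y / (t - 1)) = y + y / (t - 1) := by field_simp; ring
      rw [h4, φ.e_add, mul_inv_cancel_right]
    rw [← h3]
    exact mem_Zf_of hx (φ.eV _) (he0 _)
  refine ⟨fun hz => ?_, fun ⟨y, hy⟩ => hy ▸ hle y⟩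
  -- the coordinate
  obtain ⟨y, hy⟩ : ∃ y, y = Sd.pc S M i z 1 := ⟨_, rfl⟩
  refine ⟨y, Zf_inj q hz (hle y) ?_⟩
  have h1 : Sd.pc S M i z = Sd.pc S M i (e y) := by
    have h2 := φ.eπ y
    rw [hπ] at h2
    rw [h2]
    refine NatPair.ext2 ?_ ?_
    · rw [Sd.pc_zero, (Zf_le_NL i hz).2]; rfl
    · rw [← hy]; rfl
  rw [(Sd.pc_eq_iff S M).1 h1]

end form

/-! ### An `r`-element -/

section elt

variable {G : Type u} [Group G] [Finite G] {F : Type} [Field F] [Finite F] [CharP F 2] {S : Sylow 2 G}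
  {P : Subgroup G} {k : ℕ} {M : NatK F (S : Subgroup G) P (zl (S : Subgroup G) P) (cv (S : Subgroup G) P) k}

theorem exists_elt (q : Sit F S P k) (l : Fin k) : ∃ (r j : ℕ) (t : F) (ht : t ≠ 0) (x : G), r.Prime ∧ r ≠ 2 ∧ t ≠ 1 ∧
    t ^ r = 1 ∧ x ^ r ^ j = 1 ∧ Al M l x (dg t ht) := by
  obtain ⟨t, r, h, T⟩ := exists_tor (M := M) q
  have hr := T.prime
  obtain ⟨j, m, hm, ho⟩ := Nat.exists_eq_pow_mul_and_not_dvd (orderOf_pos (h l)).ne' r hr.ne_one
  refine ⟨r, j, t ^ m, pow_ne_zero m T.ne_zero, h l ^ m, hr, T.odd, ?_, ?_, ?_, ?_⟩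
  · intro h1
    have h2 : orderOf t ∣ m := orderOf_dvd_of_pow_eq_one h1
    have : Fact r.Prime := ⟨hr⟩
    rw [orderOf_eq_prime T.pow T.ne_one] at h2
    exact hm h2
  · rw [← pow_mul, mul_comm, pow_mul, T.pow, one_pow]
  · rw [← pow_mul, mul_comm, ← ho, pow_orderOf_eq_one]
  · have h1 := Al_pow (T.al l) m
    rwa [dg_pow] at h1

end elt

end Cfsg.Agent.Omega.IId.ThmCQ.Nsp
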