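import Cfsg.Agent.Omega.IId.ThmCQ.NsTor
import Cfsg.Agent.Omega.IId.ThmCQ.Dat

/-!
# THEOREM C with `D`, `q ≥ 4`, nonsplit: the data `DatD`

`M : NatK F S P (zl S P) (cv S P) k`, `4 ≤ |F|`: `exists_tor` gives `h : Fin k → G`, a prime `p` and `Tor M t p h`;
`Tor.dat : DatD S (LS M) (Zf M) h p`.
-/

set_option autoImplicit false
set_option linter.unusedSectionVars false
set_option linter.unusedVariables false

namespace Cfsg.Agent.Omega.IId.ThmCQ.Nsp

open Subgroup Cfsg Cfsg.Agent.ZN Cfsg.Agent.Omega.IId Cfsg.Agent.Omega.ThmC.Four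
open Cfsg.Agent.ZN.ChoiceSit hiding zc_le zc_le_zl
open Cfsg.Agent.ZN.ChoiceBase hiding mem_zc
open Cfsg.Agent.Omega.MinPar Cfsg.Agent.Omega.FrameFF Cfsg.Agent.Omega.FFThm
open Cfsg.Agent.MinSimple.VModule (le_normalizer_zl mem_zc zc_le zc_le_zl)
open Cfsg.Agent.Lib.SL2Mat
open Cfsg.Agent.Omega.NatPair (ap ap_mul ap_one ap_inv_ap ap_ap_inv exists_ap ap_add ap_inj ap_smul)
open Cfsg.Agent.Omega.ThmC (exists_t)
open Cfsg.Agent.Omega.ThmC.FourOf (eq_one_of_pow dg_pow ap_pow_tri mem_norm_of_le tri_eq)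
open Cfsg.Agent.Omega.HOne (cv_le conj_mem_zl conj_mem_cv)
open Cfsg.Agent.Omega.IId.Cv (e_div eq_iff e_cv e_mul_cv)
open Cfsg.Agent.Omega.IId.Ns

universe u

variable {G : Type u} [Group G] [Finite G] {F : Type} [Field F] [Finite F] [CharP F 2] {S : Sylow 2 G}
  {P : Subgroup G} {k : ℕ}

/-- The torus elements. -/
structure Tor (M : NatK F (S : Subgroup G) P (zl (S : Subgroup G) P) (cv (S : Subgroup G) P) k) (t : F) (p : ℕ)
    (h : Fin k → G) : Prop where
  prime : p.Prime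
  odd : p ≠ 2
  ne_one : t ≠ 1
  pow : t ^ p = 1
  ne_zero : t ≠ 0
  field : ∀ (τ : F ≃+* F) (n : ℕ), τ ^ 2 ^ n = 1 → τ t = t → τ = 1
  al : ∀ l, Al M l (h l) (dg t ne_zero)
  nor : ∀ l, h l ∈ normalizer (LS M : Set G)

variable {M : NatK F (S : Subgroup G) P (zl (S : Subgroup G) P) (cv (S : Subgroup G) P) k} {t : F} {p : ℕ}
  {h : Fin k → G}

theorem exists_tor (q : Sit F S P k) : ∃ (t : F) (p : ℕ) (h : Fin k → G), Tor M t p h := by
  classical
  obtain ⟨p, t, hp, hp2, ht1, htp, hf⟩ := exists_t q.hF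
  have ht0 : t ≠ 0 := by
    rintro rfl
    rw [zero_pow hp.ne_zero] at htp
    exact zero_ne_one htp
  have key : ∀ l : Fin k, ∃ g : G, g ∈ normalizer (LS M : Set G) ∧ Al M l g (dg t ht0) := by
    intro l
    obtain ⟨g, hg, hgn, hga⟩ := exists_norm (M := M) q (one1 l (dg t ht0)) fun i => by
      by_cases hi : i = l
      · rw [hi, one1_same, dg_10]
      · rw [one1_ne hi]; simp
    exact ⟨g, hgn, hg, hga⟩
  choose h h1 h2 using key
  exact ⟨t, p, h, ⟨hp, hp2, ht1, htp, ht0, hf, h2, h1⟩⟩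

/-- powers of `Al` -/
theorem Al_pow {i : Fin k} {x : G} {B : Matrix.SpecialLinearGroup (Fin 2) F} (hx : Al M i x B) (n : ℕ) :
    Al M i (x ^ n) (B ^ n) := by
  induction n with
  | zero => rw [pow_zero, pow_zero]; exact Al.one i
  | succ n ih => rw [pow_succ, pow_succ]; exact ih.mul hx

namespace Tor

variable (T : Tor M t p h)

include T

theorem e_line {l : Fin k} {v : G} (hv : v ∈ zl (S : Subgroup G) P) (h1 : M.e v l 1 = 0) :
    M.e (h l * v * (h l)⁻¹) l = t • M.e v l := by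
  rw [(T.al l).same hv]
  apply NatPair.ext2
  · rw [NatPair.ap_zero', dg_00, dg_01, h1]; simp
  · rw [NatPair.ap_one', dg_10, dg_11, h1]; simp [h1]

theorem pow_al (l : Fin k) : Al M l (h l ^ p) 1 := by
  refine (Al_pow (T.al l) p).of_eq ?_
  rw [dg_pow]
  apply ext_ent <;> simp [T.pow]

theorem fpf (q : Sit F S P k) {l : Fin k} {v : G} (hv : v ∈ Zf M l) (hc : h l * v = v * h l) : v = 1 := by
  have h1 := T.e_line (Zf_le_V l hv) (Zf_le_NL l hv).2
  have h2 : h l * v * (h l)⁻¹ = v := by rw [hc]; group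
  rw [h2] at h1
  refine eq_one_of_Zf q hv ?_
  have h3 := congrFun h1 0
  simp only [Pi.smul_apply, smul_eq_mul] at h3
  have h4 : (t - 1) * M.e v l 0 = 0 := by linear_combination -h3
  rcases mul_eq_zero.1 h4 with h5 | h5
  · exact absurd (sub_eq_zero.1 h5) T.ne_one
  · exact h5

end Tor

theorem al_acts {i j : Fin k} {x y : G} {A B : Matrix.SpecialLinearGroup (Fin 2) F} (hx : Al M i x A)
    (hy : Al M j y B) : ActsSL M.e (zl (S : Subgroup G) P) (cv (S : Subgroup G) P) (x * y)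
      (fun l => one1 i A l * one1 j B l) := Ns.acts_mul M hx.1 hy.1 hx.2 hy.2


/-- the data -/
theorem Tor.dat (T : Tor M t p h) (q : Sit F S P k) : DatD S (LS M) (Zf M) h p where
  prime := T.prime
  odd := T.odd
  LS := LS_le
  nor := S_le_normalizer_LS q.h.le
  cL := cent_LS q
  hL := T.nor
  hcomm l m := by
    refine act_of_eq q (mul_mem (T.al l).1 (T.al m).1) (mul_mem (T.nor l) (T.nor m))
      (mul_mem (T.al m).1 (T.al l).1) (mul_mem (T.nor m) (T.nor l)) (al_acts (T.al l) (T.al m)) ?_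
    have h1 := al_acts (T.al m) (T.al l)
    have e : (fun j => one1 m (dg t T.ne_zero) j * one1 l (dg t T.ne_zero) j) =
        fun j => one1 l (dg t T.ne_zero) j * one1 m (dg t T.ne_zero) j := by
      by_cases hlm : l = m
      · rw [hlm]
      funext i
      by_cases hi : i = l
      · have him : i ≠ m := fun h => hlm (hi.symm.trans h)
        rw [one1_ne him, one_mul, mul_one]
      · rw [one1_ne hi, one_mul, mul_one]
    rwa [e] at h1
  hp l := by
    refine act_of_eq q (pow_mem (T.al l).1 p) (pow_mem (T.nor l) p) (one_mem _) (one_mem _)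
      (T.pow_al l).2 ?_
    rw [one1_one]
    exact Ns.acts_one M
  perm s hs := by
    classical
    have hsP := q.h.le hs
    obtain ⟨σ, hσ⟩ := M.perm s hsP
    refine ⟨σ, fun l => ?_⟩
    have hm : Mv M s l (σ l) := fun v hv => hσ v hv l
    obtain ⟨m, hm'⟩ : ∃ m, m = σ l := ⟨_, rfl⟩
    rw [← hm'] at hm ⊢
    obtain ⟨a, c, hx⟩ := conj_Al_line q.h.le hs hm (by simp) (T.al l)
    have hxN : s * h l * s⁻¹ ∈ normalizer (LS M : Set G) :=
      mul_mem (mul_mem (S_le_normalizer_LS q.h.le hs) (T.nor l)) (inv_mem (S_le_normalizer_LS q.h.le hs))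
    obtain ⟨A, hA⟩ : ∃ A, A = dg (a : F) a.ne_zero * up c := ⟨_, rfl⟩
    rw [← hA] at hx
    have htri : ent A 1 0 = 0 := by rw [hA]; simp [ent_mul]
    obtain ⟨x, hxdef⟩ : ∃ x, x = s * h l * s⁻¹ := ⟨_, rfl⟩
    rw [← hxdef] at hx hxN ⊢
    have hAp : A ^ p = 1 := by
      have h1 := Al_pow hx p
      have h2 : ∀ v ∈ zl (S : Subgroup G) P, x ^ p * v * (x ^ p)⁻¹ = v := by
        intro v hv
        have hw : s⁻¹ * v * s ∈ zl (S : Subgroup G) P := by
          have := conj_mem_zl (inv_mem hsP) hv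
          rwa [inv_inv] at this
        have h3 := Al.eq_V q.hG S q.h q.hk (T.pow_al l) (Al.one l) hw
        have e : x ^ p = s * h l ^ p * s⁻¹ := by rw [hxdef, conj_pow]
        calc x ^ p * v * (x ^ p)⁻¹ = s * (h l ^ p * (s⁻¹ * v * s) * (h l ^ p)⁻¹) * s⁻¹ := by rw [e]; group
          _ = s * (1 * (s⁻¹ * v * s) * 1⁻¹) * s⁻¹ := by rw [h3]
          _ = v := by group
      refine ap_inj fun y => ?_
      obtain ⟨v, hv, hvy, -⟩ := Ns.exists_single (M := M) m y
      rw [← hvy, ← h1.same hv, h2 v hv, ap_one]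
    have hap : (ent A 0 0) ^ p = 1 := by
      have h1 := ap_pow_tri htri p
      rw [hAp, ap_one] at h1
      exact (congrFun h1 0).symm
    have ha0 : ent A 0 0 ≠ 0 := by
      intro h0
      rw [h0, zero_pow T.prime.ne_zero] at hap
      exact zero_ne_one hap
    -- `ent A 0 0` is a power of `t`
    have : Fact p.Prime := ⟨T.prime⟩
    have : NeZero p := ⟨T.prime.ne_zero⟩
    have hprim : IsPrimitiveRoot t p := by
      rw [IsPrimitiveRoot.iff_orderOf]
      exact orderOf_eq_prime T.pow T.ne_one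
    obtain ⟨r, -, hr⟩ := hprim.eq_pow_of_pow_eq_one hap
    refine ⟨r, ?_⟩
    obtain ⟨b, hb⟩ : ∃ b, b = ent A 0 1 * ent A 0 0 := ⟨_, rfl⟩
    obtain ⟨u, hu, hub⟩ := M.unip (fun i => if i = m then b else 0)
    have huA : Al M m u (up b) := by
      refine ⟨q.h.le hu, ?_⟩
      have e : (fun i => up (if i = m then b else 0)) = one1 m (up b) := by
        funext i
        by_cases hi : i = m
        · rw [hi, if_pos rfl, one1_same]
        · rw [if_neg hi, one1_ne hi, up_zero]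
      rwa [e] at hub
    have huL : u ∈ LS M := mem_LS q.h.le hu hub
    have huN : u ∈ normalizer (LS M : Set G) := le_normalizer huL
    have h1 : Act (zc (LS M)) x (u * h m ^ r) := by
      refine act_of_eq q hx.1 hxN (mul_mem huA.1 (pow_mem (T.al m).1 r))
        (mul_mem huN (pow_mem (T.nor m) r)) hx.2 ((huA.mul (Al_pow (T.al m) r)).of_eq ?_).2
      rw [dg_pow]
      have h3 := tri_eq htri ha0
      conv_rhs => rw [h3]
      rw [hb]
      congr 1
      apply ext_ent <;> simp [hr]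
    intro e he
    rw [h1 e he]
    have h3 : h m ^ r * e * (h m ^ r)⁻¹ ∈ zc (LS M) :=
      (mem_normalizer_iff.1 (MinSimple.VModule.normalizer_le_normalizer_zc _ (pow_mem (T.nor m) r)) e).1 he
    have h4 := (mem_zc.1 h3).2.1 u huL
    calc u * h m ^ r * e * (u * h m ^ r)⁻¹ = (u * (h m ^ r * e * (h m ^ r)⁻¹)) * u⁻¹ := by group
      _ = ((h m ^ r * e * (h m ^ r)⁻¹) * u) * u⁻¹ := by rw [h4]
      _ = h m ^ r * e * (h m ^ r)⁻¹ := by group
  field s hs hcomm := by
    have hsP := q.h.le hs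
    have hconj : ∀ l, ∀ v ∈ zc (LS M), s * (h l * v * (h l)⁻¹) * s⁻¹ = h l * (s * v * s⁻¹) * (h l)⁻¹ := by
      intro l v hv
      have h1 := hcomm l v hv
      calc s * (h l * v * (h l)⁻¹) * s⁻¹ = (s * h l) * v * (s * h l)⁻¹ := by group
        _ = (h l * s) * v * (h l * s)⁻¹ := h1
        _ = h l * (s * v * s⁻¹) * (h l)⁻¹ := by group
    have hsg : ∀ l, Mv M s l l := by
      intro l
      obtain ⟨m, hm⟩ := exists_Mv (M := M) hsP l
      by_cases hml : m = l
      · rwa [hml] at hm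
      exfalso
      obtain ⟨z, hz, hz1⟩ := exists_Zf q (M := M) l 1
      have h1 : s * z * s⁻¹ ∈ Zf M m := (conj_Zf_S q hs hm).1 hz
      have h2 := Al_comm_Nc q hml (T.al l) (Zf_le m h1)
      have h3 := hconj l z (Zf_le_zc q l hz)
      have h4 : h l * (s * z * s⁻¹) * (h l)⁻¹ = s * z * s⁻¹ := by rw [h2]; group
      rw [h4] at h3
      have h5 : h l * z * (h l)⁻¹ = z := by
        have h6 : s * (h l * z * (h l)⁻¹) = s * z := mul_right_cancel h3
        exact mul_left_cancel h6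
      have h6 : z = 1 := T.fpf q hz (by
        calc h l * z = (h l * z * (h l)⁻¹) * h l := by group
          _ = z * h l := by rw [h5])
      rw [h6, Cv.e_one M] at hz1
      have := congrFun hz1 0
      simp at this
    obtain ⟨b, hb⟩ := acts_of_field q.hG S q.h q.hk (M := M) T.field hs hsg fun l v hv w hw hvj hwj h0 hc => by
      -- replace `v`, `w` by elements of `Zf M l`
      obtain ⟨v', hv', hve⟩ := exists_Zf q (M := M) l (M.e v l 0)
      have hve' : M.e v' l = M.e v l := by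
        rw [hve]
        exact NatPair.ext2 rfl h0.symm
      have hv'V := Zf_le_V l hv'
      have h1 : s * v' * s⁻¹ ∈ Zf M l := (conj_Zf_S q hs (hsg l)).1 hv'
      have h2 := hconj l v' (Zf_le_zc q l hv')
      have h3 := T.e_line hv'V (Zf_le_NL l hv').2
      have h4 := T.e_line (Zf_le_V l h1) (Zf_le_NL l h1).2
      have h5 : M.e (s * w * s⁻¹) l = M.e (s * (h l * v' * (h l)⁻¹) * s⁻¹) l :=
        conj_congr (M := M) hsP (hsg l) hw ((T.al l).V hv'V) (by rw [h3, hve', hc])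
      have h6 : M.e (s * v * s⁻¹) l = M.e (s * v' * s⁻¹) l :=
        conj_congr (M := M) hsP (hsg l) hv hv'V hve'.symm
      rw [h5, h2, h4, h6]
    exact mem_LS q.h.le hs hb
  ZE := Zf_le_zc q
  Zne := Zf_ne_bot q
  Znor l := mem_norm_of_le fun z hz => conj_Zf_Al q (T.al l) (by simp) hz
  Zfpf l z hz hc := T.fpf q hz hc
  Zcent l m hlm z hz := Al_comm_Nc q hlm (T.al m) (Zf_le l hz)
  Zperm s hs l := by
    obtain ⟨m, hm⟩ := exists_Mv (M := M) (q.h.le hs) l
    exact ⟨m, fun v => conj_Zf_S q hs hm⟩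
  trans l m := by
    obtain ⟨s, hs, h1⟩ := M.trans l m
    exact ⟨s, hs, fun v => conj_Zf_S q hs h1⟩
  fix z hz := by
    obtain ⟨d, hd, w, hw, he⟩ := exists_dw q (zc_S_le q hz)
    exact ⟨d, D_le_zc q hd, fun l => (T.al l).D hd, w, hw, he⟩

end Cfsg.Agent.Omega.IId.ThmCQ.Nsp
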