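import Cfsg.Agent.Omega.IId.ThmCQ.NsBase
import Cfsg.Agent.Omega.IId.ThmCQ.NsField
import Cfsg.Agent.Omega.IId.Ns.Half

/-!
# THEOREM C with `D`, `q ≥ 4`, nonsplit: the torus part `Zf M i` of the line in `N_i`

`M : NatK F S P (zl S P) (cv S P) k`, `4 ≤ |F|`.  `Zf M i` is generated by the `[x, r]`, where `x` acts as `dg t` in the
`i`-th factor only, and `r ∈ Nc M i` is on the line.

* `Zf_eq` : `Zf M i = {[x, r] | r ∈ Nc M i on the line}` for every `x` acting as `dg t`, `t ≠ 1`;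
* `eq_one_of_Zf` : `Zf M i ∩ D = 1`;  `exists_Zf` : `Zf M i` covers the line;
* `conj_Zf` : `S` permutes the `Zf M i`.
-/

set_option autoImplicit false
set_option linter.unusedSectionVars false
set_option linter.unusedVariables false

namespace Cfsg.Agent.Omega.IId.ThmCQ.Nsp

open Subgroup Cfsg Cfsg.Agent.ZN Cfsg.Agent.Omega.IId Cfsg.Agent.Omega.ThmC.Four
open Cfsg.Agent.ZN.ChoiceSit hiding zc_le zc_le_zl
open Cfsg.Agent.ZN.ChoiceBase hiding mem_zc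
open Cfsg.Agent.Omega.MinPar Cfsg.Agent.Omega.FrameFF Cfsg.Agent.Omega.FFThm
open Cfsg.Agent.MinSimple.VModule (le_normalizer_zl mem_zc zc_le zc_le_zl)
open Cfsg.Agent.Lib.SL2Mat
open Cfsg.Agent.Omega.NatPair (ap ap_mul ap_one ap_inv_ap ap_ap_inv exists_ap ap_add ap_inj ap_smul)
open Cfsg.Agent.Omega.HOne (cv_le conj_mem_zl conj_mem_cv)
open Cfsg.Agent.Omega.IId.Cv (e_one e_inv e_div eq_iff e_cv e_mul_cv)
open Cfsg.Agent.Omega.IId.Ns

universe u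

section zf

variable {G : Type u} [Group G] {F : Type} [Field F] {S P : Subgroup G} {k : ℕ}
  (M : NatK F S P (zl S P) (cv S P) k)

/-- the torus part of the line in `Nc M i` -/
def Zf (i : Fin k) : Subgroup G :=
  closure {z | ∃ (t : F) (ht : t ≠ 0) (x : G), Al M i x (dg t ht) ∧ ∃ r ∈ Nc M i, M.e r i 1 = 0 ∧
    z = x * r * x⁻¹ * r⁻¹}

variable {M}

theorem mem_Zf_of {i : Fin k} {t : F} {ht : t ≠ 0} {x r : G} (hx : Al M i x (dg t ht)) (hr : r ∈ Nc M i)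
    (h0 : M.e r i 1 = 0) : x * r * x⁻¹ * r⁻¹ ∈ Zf M i := subset_closure ⟨t, ht, x, hx, r, hr, h0, rfl⟩

/-- the coordinate of `[x, r]` -/
theorem e_comm {i : Fin k} {t : F} {ht : t ≠ 0} {x r : G} (hx : Al M i x (dg t ht)) (hr : r ∈ zl S P)
    (h0 : M.e r i 1 = 0) : M.e (x * r * x⁻¹ * r⁻¹) i = ![(t - 1) * M.e r i 0, 0] := by
  rw [hx.comm_same hr]
  apply NatPair.ext2
  · rw [Pi.sub_apply, NatPair.ap_zero', dg_00, dg_01, h0]; simp; ring
  · rw [Pi.sub_apply, NatPair.ap_one', dg_10, dg_11, h0]; simp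

/-- the elements of `Nc M i` on the line -/
def NL (M : NatK F S P (zl S P) (cv S P) k) (i : Fin k) : Subgroup G where
  carrier := {r | r ∈ Nc M i ∧ M.e r i 1 = 0}
  one_mem' := ⟨one_mem _, by rw [Cv.e_one M]; rfl⟩
  mul_mem' := by
    rintro a b ⟨ha, ha0⟩ ⟨hb, hb0⟩
    refine ⟨mul_mem ha hb, ?_⟩
    rw [M.mul a (Nc_le_zl i ha) b (Nc_le_zl i hb), Pi.add_apply, Pi.add_apply, ha0, hb0, add_zero]
  inv_mem' := by
    rintro a ⟨ha, ha0⟩
    refine ⟨inv_mem ha, ?_⟩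
    rw [Cv.e_inv M (Nc_le_zl i ha), Pi.neg_apply, Pi.neg_apply, ha0, neg_zero]

theorem mem_NL {i : Fin k} {r : G} : r ∈ NL M i ↔ r ∈ Nc M i ∧ M.e r i 1 = 0 := Iff.rfl

theorem NL_le (i : Fin k) : NL M i ≤ Nc M i := fun _ h => h.1

theorem Al.mv {i : Fin k} {x : G} {B : Matrix.SpecialLinearGroup (Fin 2) F} (hx : Al M i x B) : Mv M x i i :=
  fun v hv => by rw [hx.same hv, Ns.ap_eq_zero]

theorem tri_NL {i : Fin k} {x r : G} {B : Matrix.SpecialLinearGroup (Fin 2) F} (hx : Al M i x B)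
    (hB : ent B 1 0 = 0) (hr : r ∈ NL M i) : x * r * x⁻¹ ∈ NL M i := by
  refine ⟨Nc_norm hx.1 (Al.mv hx) hr.1, ?_⟩
  rw [hx.same (Nc_le_zl i hr.1), NatPair.ap_one', hB, hr.2]
  ring

theorem Zf_le_NL (i : Fin k) : Zf M i ≤ NL M i := by
  rw [Zf, closure_le]
  rintro _ ⟨t, ht, x, hx, r, hr, h0, rfl⟩
  exact mul_mem (tri_NL hx (by simp) ⟨hr, h0⟩) (inv_mem (⟨hr, h0⟩ : r ∈ NL M i))

theorem Zf_le (i : Fin k) : Zf M i ≤ Nc M i := (Zf_le_NL i).trans (NL_le i)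

theorem Zf_le_V (i : Fin k) : Zf M i ≤ zl S P := (Zf_le i).trans (Nc_le_zl i)

/-- `g ∈ P` moving the `i`-th factor to the `j`-th conjugates `Nc M i` to `Nc M j` -/
theorem Nc_conj {i j : Fin k} {g : G} (hg : g ∈ P) (hm : Mv M g i j) {n : G} (hn : n ∈ Nc M i) :
    g * n * g⁻¹ ∈ Nc M j := by
  induction hn using closure_induction with
  | mem x hx =>
    obtain ⟨y, hy, v, hv, rfl⟩ := hx
    obtain ⟨B, hB⟩ := exists_of_Fc hy
    obtain ⟨B', hB'⟩ := conj_Al hg hm hB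
    have e : g * (y * v * y⁻¹ * v⁻¹) * g⁻¹ = (g * y * g⁻¹) * (g * v * g⁻¹) * (g * y * g⁻¹)⁻¹ * (g * v * g⁻¹)⁻¹ := by
      group
    rw [e]
    exact mem_Nc hB' (conj_mem_zl hg hv)
  | one => rw [mul_one, mul_inv_cancel]; exact one_mem _
  | mul x y _ _ hx hy =>
    have e : g * (x * y) * g⁻¹ = (g * x * g⁻¹) * (g * y * g⁻¹) := by group
    rw [e]; exact mul_mem hx hy
  | inv x _ hx =>
    have e : g * x⁻¹ * g⁻¹ = (g * x * g⁻¹)⁻¹ := by group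
    rw [e]; exact inv_mem hx

end zf

section main

variable {G : Type u} [Group G] [Finite G] {F : Type} [Field F] [Finite F] [CharP F 2] {S : Sylow 2 G}
  {P : Subgroup G} {k : ℕ} {M : NatK F (S : Subgroup G) P (zl (S : Subgroup G) P) (cv (S : Subgroup G) P) k}
  (q : Sit F S P k)

include q

/-- `[x, r]` is multiplicative in `r` -/
theorem comm_mul {x r r' : G} (hx : x ∈ P) (hr : r ∈ zl (S : Subgroup G) P) (hr' : r' ∈ zl (S : Subgroup G) P) :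
    x * (r * r') * x⁻¹ * (r * r')⁻¹ = (x * r * x⁻¹ * r⁻¹) * (x * r' * x⁻¹ * r'⁻¹) := by
  have h1 : r⁻¹ * (x * r' * x⁻¹) = (x * r' * x⁻¹) * r⁻¹ := V_comm q (inv_mem hr) (conj_mem_zl hx hr')
  have h2 : r⁻¹ * r'⁻¹ = r'⁻¹ * r⁻¹ := V_comm q (inv_mem hr) (inv_mem hr')
  calc x * (r * r') * x⁻¹ * (r * r')⁻¹ = (x * r * x⁻¹) * (x * r' * x⁻¹) * (r'⁻¹ * r⁻¹) := by group
    _ = (x * r * x⁻¹) * ((x * r' * x⁻¹) * r⁻¹) * r'⁻¹ := by rw [← h2]; group
    _ = (x * r * x⁻¹) * (r⁻¹ * (x * r' * x⁻¹)) * r'⁻¹ := by rw [h1]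
    _ = _ := by group

/-- `{[x, r] | r ∈ NL M i}` -/
def Ix (M : NatK F (S : Subgroup G) P (zl (S : Subgroup G) P) (cv (S : Subgroup G) P) k) (i : Fin k)
    (x : G) (hx : x ∈ P) : Subgroup G where
  carrier := {z | ∃ r ∈ NL M i, z = x * r * x⁻¹ * r⁻¹}
  one_mem' := ⟨1, one_mem _, by group⟩
  mul_mem' := by
    rintro _ _ ⟨r, hr, rfl⟩ ⟨r', hr', rfl⟩
    exact ⟨r * r', mul_mem hr hr', (comm_mul q hx (Nc_le_zl i hr.1) (Nc_le_zl i hr'.1)).symm⟩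
  inv_mem' := by
    rintro _ ⟨r, hr, rfl⟩
    refine ⟨r, hr, ?_⟩
    have hV : x * r * x⁻¹ * r⁻¹ ∈ zl (S : Subgroup G) P :=
      mul_mem (conj_mem_zl hx (Nc_le_zl i hr.1)) (inv_mem (Nc_le_zl i hr.1))
    exact inv_eq_of_mul_eq_one_left (V_sq q hV)

theorem hω : ∃ ω : F, ω ≠ 0 ∧ ω ≠ 1 := exists_omega q.hF

/-- an element `[y, r]` without `i`-th coordinate is trivial -/
theorem eq_one_of_comm {i : Fin k} {t : F} {ht : t ≠ 0} {y r : G} (hy : Al M i y (dg t ht)) (hr : r ∈ NL M i)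
    (h0 : M.e (y * r * y⁻¹ * r⁻¹) i 0 = 0) : y * r * y⁻¹ * r⁻¹ = 1 := by
  have hrV := Nc_le_zl i hr.1
  rw [e_comm hy hrV hr.2] at h0
  have h1 : (t - 1) * M.e r i 0 = 0 := h0
  have h2 : y * r * y⁻¹ = r := by
    rcases mul_eq_zero.1 h1 with h3 | h3
    · have ht1 : t = 1 := sub_eq_zero.1 h3
      have h4 : Al M i y 1 := hy.of_eq (by
        apply ext_ent
        · rw [dg_00, ht1]; rfl
        · rw [dg_01]; rfl
        · rw [dg_10]; rfl
        · rw [dg_11, ht1, inv_one]; rfl)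
      have h5 := Al.eq_V q.hG S q.h q.hk h4 (Al.one i) hrV
      rw [h5]; group
    · exact fix_ker q.hG S q.h q.hk q.hF hy hrV (NatPair.ext2 h3 hr.2)
  rw [h2, mul_inv_cancel]

theorem comm_V_of_Al {i : Fin k} {x y : G} {A B : Matrix.SpecialLinearGroup (Fin 2) F} (hx : Al M i x A)
    (hy : Al M i y B) (hAB : A * B = B * A) {v : G} (hv : v ∈ zl (S : Subgroup G) P) :
    x * (y * v * y⁻¹) * x⁻¹ = y * (x * v * x⁻¹) * y⁻¹ := by
  have h1 := Al.eq_V q.hG S q.h q.hk (hx.mul hy) ((hy.mul hx).of_eq hAB.symm) hv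
  calc x * (y * v * y⁻¹) * x⁻¹ = x * y * v * (x * y)⁻¹ := by group
    _ = y * x * v * (y * x)⁻¹ := h1
    _ = _ := by group

omit q in
theorem dg_comm {t t' : F} (ht : t ≠ 0) (ht' : t' ≠ 0) : dg t ht * dg t' ht' = dg t' ht' * dg t ht := by
  apply ext_ent
  · simp [ent_mul]; ring
  · simp [ent_mul]
  · simp [ent_mul]
  · simp [ent_mul]; ring

/-- `{[y, r]} ≤ {[x, r]}` -/
theorem Ix_le {i : Fin k} {t t' : F} {ht : t ≠ 0} {ht' : t' ≠ 0} (ht1 : t ≠ 1) {x y : G} (hx : Al M i x (dg t ht))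
    (hy : Al M i y (dg t' ht')) : Ix q M i y hy.1 ≤ Ix q M i x hx.1 := by
  -- the map `z ↦ [x, z]` on `Ix y`
  have hmap : ∀ z : Ix q M i y hy.1, x * (z : G) * x⁻¹ * (z : G)⁻¹ ∈ Ix q M i y hy.1 := by
    rintro ⟨_, r, hr, rfl⟩
    have hrV := Nc_le_zl i hr.1
    have h1 : x * (y * r * y⁻¹ * r⁻¹) * x⁻¹ = y * (x * r * x⁻¹) * y⁻¹ * (x * r * x⁻¹)⁻¹ := by
      rw [← comm_V_of_Al q hx hy (dg_comm ht ht') hrV]; group
    refine mul_mem ?_ (inv_mem ⟨r, hr, rfl⟩)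
    change x * (y * r * y⁻¹ * r⁻¹) * x⁻¹ ∈ _
    rw [h1]
    exact ⟨_, tri_NL hx (by simp) hr, rfl⟩
  have hV : ∀ z ∈ Ix q M i y hy.1, z ∈ zl (S : Subgroup G) P := by
    rintro _ ⟨r, hr, rfl⟩
    exact mul_mem (conj_mem_zl hy.1 (Nc_le_zl i hr.1)) (inv_mem (Nc_le_zl i hr.1))
  have hL : ∀ z ∈ Ix q M i y hy.1, z ∈ NL M i := by
    rintro _ ⟨r, hr, rfl⟩
    exact mul_mem (tri_NL hy (by simp) hr) (inv_mem hr)
  have hinj : Function.Injective (fun z : Ix q M i y hy.1 =>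
      (⟨x * (z : G) * x⁻¹ * (z : G)⁻¹, hmap z⟩ : Ix q M i y hy.1)) := by
    intro a b hab
    have h1 : x * (a : G) * x⁻¹ * (a : G)⁻¹ = x * (b : G) * x⁻¹ * (b : G)⁻¹ := congrArg Subtype.val hab
    have haV := hV _ a.2
    have hbV := hV _ b.2
    have h2 := comm_mul q hx.1 haV (inv_mem hbV)
    have h3 := comm_mul q hx.1 hbV (inv_mem hbV)
    rw [h1, ← h3, mul_inv_cancel] at h2
    have h4 : x * ((a : G) * (b : G)⁻¹) * x⁻¹ * ((a : G) * (b : G)⁻¹)⁻¹ = 1 := by rw [h2]; group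
    -- the coordinate of `c = a b⁻¹`
    have hc : (a : G) * (b : G)⁻¹ ∈ Ix q M i y hy.1 := mul_mem a.2 (inv_mem b.2)
    have hcV := hV _ hc
    have h5 := e_comm hx hcV (hL _ hc).2
    rw [h4, Cv.e_one M] at h5
    have h6 : (t - 1) * M.e ((a : G) * (b : G)⁻¹) i 0 = 0 := (congrFun h5 0).symm
    have h7 : M.e ((a : G) * (b : G)⁻¹) i 0 = 0 := by
      rcases mul_eq_zero.1 h6 with h | h
      · exact absurd (sub_eq_zero.1 h) ht1
      · exact h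
    obtain ⟨r, hr, hcr⟩ := hc
    rw [hcr] at h7
    have h8 := eq_one_of_comm q hy hr h7
    rw [← hcr] at h8
    exact Subtype.ext (mul_inv_eq_one.1 h8)
  have hsurj := Finite.surjective_of_injective hinj
  intro z hz
  obtain ⟨w, hw⟩ := hsurj ⟨z, hz⟩
  have h1 : x * (w : G) * x⁻¹ * (w : G)⁻¹ = z := congrArg Subtype.val hw
  exact ⟨w, hL _ w.2, h1.symm⟩

/-- `Zf M i = {[x, r] | r ∈ NL M i}` -/
theorem Zf_eq {i : Fin k} {t : F} {ht : t ≠ 0} (ht1 : t ≠ 1) {x : G} (hx : Al M i x (dg t ht)) :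
    Zf M i = Ix q M i x hx.1 := by
  apply le_antisymm
  · rw [Zf, closure_le]
    rintro _ ⟨t', ht', y, hy, r, hr, h0, rfl⟩
    exact Ix_le q ht1 hx hy ⟨r, ⟨hr, h0⟩, rfl⟩
  · rintro _ ⟨r, hr, rfl⟩
    exact mem_Zf_of hx hr.1 hr.2

theorem mem_Zf {i : Fin k} {t : F} {ht : t ≠ 0} (ht1 : t ≠ 1) {x : G} (hx : Al M i x (dg t ht)) {z : G} :
    z ∈ Zf M i ↔ ∃ r ∈ NL M i, z = x * r * x⁻¹ * r⁻¹ := by rw [Zf_eq q ht1 hx]; rfl

/-- `Zf M i ∩ D = 1` -/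
theorem eq_one_of_Zf {i : Fin k} {z : G} (hz : z ∈ Zf M i) (h0 : M.e z i 0 = 0) : z = 1 := by
  obtain ⟨t, ht, ht1⟩ := exists_omega q.hF
  obtain ⟨x, hx⟩ := exists_Al M i (dg t ht)
  obtain ⟨r, hr, rfl⟩ := (mem_Zf q ht1 hx).1 hz
  exact eq_one_of_comm q hx hr h0

/-- `Zf M i` covers the line -/
theorem exists_Zf (i : Fin k) (c : F) : ∃ z ∈ Zf M i, M.e z i = ![c, 0] := by
  obtain ⟨t, ht, ht1⟩ := exists_omega q.hF
  obtain ⟨x, hx⟩ := exists_Al M i (dg t ht)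
  obtain ⟨r, hr, he⟩ := Sd.Nc_surj M i ![c / (t - 1), 0]
  have h0 : M.e r i 1 = 0 := by rw [he]; rfl
  refine ⟨x * r * x⁻¹ * r⁻¹, mem_Zf_of hx hr h0, ?_⟩
  rw [e_comm hx (Nc_le_zl i hr) h0, he]
  have h1 : t - 1 ≠ 0 := sub_ne_zero.2 ht1
  apply NatPair.ext2
  · simp; field_simp
  · simp

theorem Zf_inj {i : Fin k} {z w : G} (hz : z ∈ Zf M i) (hw : w ∈ Zf M i) (h0 : M.e z i 0 = M.e w i 0) : z = w := by
  have h1 : z * w⁻¹ ∈ Zf M i := mul_mem hz (inv_mem hw)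
  have h2 : M.e (z * w⁻¹) i 0 = 0 := by
    rw [e_div M (Zf_le_V i hz) (Zf_le_V i hw), Pi.sub_apply, Pi.sub_apply, h0, sub_self]
  exact mul_inv_eq_one.1 (eq_one_of_Zf q h1 h2)

theorem Zf_ne_bot (i : Fin k) : Zf M i ≠ ⊥ := by
  intro h0
  obtain ⟨z, hz, he⟩ := exists_Zf q (M := M) i 1
  rw [h0, mem_bot] at hz
  rw [hz, Cv.e_one M] at he
  have := congrFun he 0
  simp at this

theorem Zf_LV {i : Fin k} {z : G} (hz : z ∈ Zf M i) : z ∈ LV M := by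
  refine ⟨Zf_le_V i hz, fun l => ?_⟩
  by_cases hl : l = i
  · rw [hl]; exact (Zf_le_NL i hz).2
  · rw [Sd.e_Nc M (Zf_le i hz) hl]; rfl

theorem Zf_le_zc (i : Fin k) : Zf M i ≤ zc (LS M) := fun _ hz => LV_le_zc q (Zf_LV q hz)

/-- the elements of `P` which move the `i`-th factor to the `j`-th and the line to the line -/
theorem conj_Zf {i j : Fin k} {g : G} (hg : g ∈ P) (hm : Mv M g i j)
    (hl : ∀ v ∈ zl (S : Subgroup G) P, M.e (g * v * g⁻¹) j 1 = 0 ↔ M.e v i 1 = 0) {z : G} (hz : z ∈ Zf M i) :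
    g * z * g⁻¹ ∈ Zf M j := by
  unfold Zf at hz
  induction hz using closure_induction with
  | mem z hz =>
    obtain ⟨t, ht, x, hx, r, hr, h0, rfl⟩ := hz
    obtain ⟨B, hB⟩ := conj_Al hg hm hx
    have hB0 : ent B 1 0 = 0 := by
      obtain ⟨u, hu, h1, -⟩ := Ns.exists_single (M := M) j ![1, 0]
      have hv : g⁻¹ * u * g ∈ zl (S : Subgroup G) P := by
        have := conj_mem_zl (inv_mem hg) hu
        rwa [inv_inv] at this
      have e : g * (g⁻¹ * u * g) * g⁻¹ = u := by group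
      have h2 := hl _ hv
      rw [e, h1] at h2
      have h3 : M.e (g⁻¹ * u * g) i 1 = 0 := h2.1 rfl
      have h4 : M.e (x * (g⁻¹ * u * g) * x⁻¹) i 1 = 0 := by
        rw [hx.same hv, NatPair.ap_one', dg_10, h3]; ring
      have h5 := (hl _ (hx.V hv)).2 h4
      have e2 : g * (x * (g⁻¹ * u * g) * x⁻¹) * g⁻¹ = (g * x * g⁻¹) * u * (g * x * g⁻¹)⁻¹ := by group
      rw [e2, hB.same hu, h1, NatPair.ap_one'] at h5
      simpa using h5
    obtain ⟨m, c, hmc⟩ := exists_dg_up hB0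
    obtain ⟨d, hd⟩ := exists_Al M j (dg (m : F) m.ne_zero)
    obtain ⟨w, hw⟩ := exists_Al M j (up c)
    have hrN : r ∈ NL M i := ⟨hr, h0⟩
    have hrV := Nc_le_zl i hr
    have hr' : g * r * g⁻¹ ∈ NL M j := ⟨Nc_conj hg hm hr, (hl _ hrV).2 h0⟩
    have hr'V := Nc_le_zl j hr'.1
    have h1 : (g * x * g⁻¹) * (g * r * g⁻¹) * (g * x * g⁻¹)⁻¹ = d * (g * r * g⁻¹) * d⁻¹ := by
      have h2 := Al.eq_V q.hG S q.h q.hk (hB.of_eq hmc) (hd.mul hw) hr'V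
      have h3 := fix_line q.hG S q.h q.hk q.hF hw hr'V hr'.2
      rw [h2]
      calc d * w * (g * r * g⁻¹) * (d * w)⁻¹ = d * (w * (g * r * g⁻¹) * w⁻¹) * d⁻¹ := by group
        _ = _ := by rw [h3]
    have e : g * (x * r * x⁻¹ * r⁻¹) * g⁻¹ =
        (g * x * g⁻¹) * (g * r * g⁻¹) * (g * x * g⁻¹)⁻¹ * (g * r * g⁻¹)⁻¹ := by group
    rw [e, h1]
    exact mem_Zf_of hd hr'.1 hr'.2
  | one => rw [mul_one, mul_inv_cancel]; exact one_mem _
  | mul x y _ _ hx hy =>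
    have e : g * (x * y) * g⁻¹ = (g * x * g⁻¹) * (g * y * g⁻¹) := by group
    rw [e]; exact mul_mem hx hy
  | inv x _ hx =>
    have e : g * x⁻¹ * g⁻¹ = (g * x * g⁻¹)⁻¹ := by group
    rw [e]; exact inv_mem hx

/-- `S` permutes the `Zf M i` -/
theorem conj_Zf_S {i j : Fin k} {s : G} (hs : s ∈ (S : Subgroup G)) (hm : Mv M s i j) {v : G} :
    v ∈ Zf M i ↔ s * v * s⁻¹ ∈ Zf M j := by
  have hsP := q.h.le hs
  refine ⟨conj_Zf q hsP hm fun v hv => Ns.conj_line q.h.le hs hm hv, fun h => ?_⟩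
  have hm' := hm.inv hsP
  have h1 := conj_Zf q (inv_mem hsP) hm' (fun v hv => Ns.conj_line q.h.le (inv_mem hs) hm' hv) h
  have e : s⁻¹ * (s * v * s⁻¹) * s⁻¹⁻¹ = v := by group
  rwa [e] at h1

/-- elements acting as an upper triangular matrix normalise `Zf M i` -/
theorem conj_Zf_Al {i : Fin k} {x : G} {B : Matrix.SpecialLinearGroup (Fin 2) F} (hx : Al M i x B)
    (hB : ent B 1 0 = 0) {z : G} (hz : z ∈ Zf M i) : x * z * x⁻¹ ∈ Zf M i := by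
  refine conj_Zf q hx.1 (Al.mv hx) (fun v hv => ?_) hz
  rw [hx.same hv, NatPair.ap_one', hB, zero_mul, zero_add]
  have hd := det_eq B
  rw [hB, mul_zero, sub_zero] at hd
  have h11 : ent B 1 1 ≠ 0 := fun h0 => by rw [h0, mul_zero] at hd; exact zero_ne_one hd
  exact ⟨fun h => (mul_eq_zero.1 h).resolve_left h11, fun h => by rw [h, mul_zero]⟩

/-- the elements acting on the factor `j ≠ i` only centralise `Nc M i` -/
theorem Al_comm_Nc {i j : Fin k} (hij : i ≠ j) {x n : G} {B : Matrix.SpecialLinearGroup (Fin 2) F} (hx : Al M j x B)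
    (hn : n ∈ Nc M i) : x * n = n * x := Sd.Fc_comm_Nc q.hG S q.h M (hω q) hij hx.mem_Fc hn

/-- the vectors on the lines are the products of elements of the `Zf M i` and of `D` -/
theorem exists_dw {v : G} (hv : v ∈ LV M) :
    ∃ d ∈ cv (S : Subgroup G) P, ∃ w ∈ ⨆ l, Zf M l, v = d * w := by
  classical
  have key : ∀ I : Finset (Fin k), ∀ v ∈ LV M, (∀ j, j ∉ I → M.e v j = 0) →
      ∃ d ∈ cv (S : Subgroup G) P, ∃ w ∈ ⨆ l, Zf M l, v = d * w := by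
    intro I
    induction I using Finset.induction_on with
    | empty =>
      intro v hv h0
      refine ⟨v, ?_, 1, one_mem _, by rw [mul_one]⟩
      rw [← M.ker v hv.1]
      exact funext fun j => h0 j (by simp)
    | insert i I hi ih =>
      intro v hv h0
      obtain ⟨a, ha, hae⟩ := exists_Zf q (M := M) i (M.e v i 0)
      have haV := Zf_le_V i ha
      have haL := Zf_LV q ha
      have hi' : M.e a i = M.e v i := by
        rw [hae]
        exact NatPair.ext2 rfl (hv.2 i).symm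
      have e1 : M.e (v * a⁻¹) = M.e v - M.e a := e_div M hv.1 haV
      obtain ⟨d, hd, w, hw, he⟩ := ih (v * a⁻¹) ⟨mul_mem hv.1 (inv_mem haV), fun l => by
        rw [e1, Pi.sub_apply, Pi.sub_apply, hv.2 l, haL.2 l, sub_self]⟩ (fun j hj => by
          rw [e1, Pi.sub_apply]
          by_cases hji : j = i
          · rw [hji, hi', sub_self]
          · rw [h0 j (by rw [Finset.mem_insert, not_or]; exact ⟨hji, hj⟩), Sd.e_Nc M (Zf_le i ha) hji, sub_self])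
      refine ⟨d, hd, w * a, mul_mem hw ((le_iSup (fun l => Zf M l) i) ha), ?_⟩
      rw [← mul_assoc, ← he, inv_mul_cancel_right]
  exact key Finset.univ v hv fun j hj => absurd (Finset.mem_univ j) hj

end main

end Cfsg.Agent.Omega.IId.ThmCQ.Nsp
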