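import Cfsg.Agent.Omega.ThmC.FourMk
import Cfsg.Agent.Omega.IId.Cv.Half
import Cfsg.Agent.Omega.IId.Cv.LineAct

/-!
# THEOREM C with `D`, `q ≥ 4`, `V_P = V × D`: the subgroup `S^L` (helper732)

`M : NatD F S P V D k`; `LS M` = the elements of `S` which act on `V` as elements of `SL₂(F)^k`.
The same facts as in `ThmC/FourOf.lean` (helper334; `V = V_P`, `D = 1`).
-/

set_option autoImplicit false
set_option linter.unusedSectionVars false

namespace Cfsg.Agent.Omega.IId.ThmCQ.Sp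

open Subgroup Cfsg Cfsg.Agent.ZN Cfsg.Agent.Omega.IId Cfsg.Agent.Omega.IId.NV Cfsg.Agent.Omega.ThmC.Four
open Cfsg.Agent.ZN.ChoiceBase hiding mem_zc
open Cfsg.Agent.Omega.MinPar Cfsg.Agent.Omega.FFThm
open Cfsg.Agent.MinSimple.VModule (le_normalizer_zl mem_zc zc_le zc_le_zl)
open Cfsg.Agent.Lib.SL2Mat
open Cfsg.Agent.Omega.NatPair (ap ap_mul ap_one ap_inv_ap ap_ap_inv exists_ap ap_add ap_inj ap_smul)
open Cfsg.Agent.Omega.ThmC (le_centralizer_of_fixed)
open Cfsg.Agent.Omega.ThmC.FourOf (conj_sylow eq_one_of_pow tri_up dg_pow ap_pow_tri)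

universe u

section basic

variable {G : Type u} [Group G] {F : Type} [Field F] {S P V : Subgroup G} {k : ℕ} {M : NatV F S P V k}

/-- the action determines the matrices -/
theorem acts_unique {g : G} {A B : Fin k → Matrix.SpecialLinearGroup (Fin 2) F}
    (hA : ActsSL M.e V ⊥ g A) (hB : ActsSL M.e V ⊥ g B) : A = B := by
  funext i
  refine ap_inj fun x => ?_
  obtain ⟨v, hv, hx⟩ := NV.exists_fac M i x
  rw [← hx, ← hA.1 v hv.1 i, hB.1 v hv.1 i]

/-- the matrices determine the action -/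
theorem acts_eq {g h : G} (hg : g ∈ P) (hh : h ∈ P) {A : Fin k → Matrix.SpecialLinearGroup (Fin 2) F}
    (hA : ActsSL M.e V ⊥ g A) (hB : ActsSL M.e V ⊥ h A) {v : G} (hv : v ∈ V) :
    g * v * g⁻¹ = h * v * h⁻¹ :=
  NV.e_inj M (NV.cj_mem M hg hv) (NV.cj_mem M hh hv) (funext fun i => by rw [hA.1 v hv i, hB.1 v hv i])

theorem acts_pow {g : G} (hg : g ∈ P) {A : Fin k → Matrix.SpecialLinearGroup (Fin 2) F}
    (hA : ActsSL M.e V ⊥ g A) (n : ℕ) : ActsSL M.e V ⊥ (g ^ n) (A ^ n) := by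
  induction n with
  | zero => rw [pow_zero, pow_zero]; exact NV.acts_one M
  | succ n ih => rw [pow_succ, pow_succ]; exact NV.acts_mul hg ih hA

theorem acts_of_cent {g : G} (hg : g ∈ centralizer (V : Set G)) : ActsSL M.e V ⊥ g 1 := by
  refine ⟨fun v hv i => ?_, fun d hd => ?_⟩
  · have h1 := mem_centralizer_iff.1 hg v hv
    have h2 : g * v * g⁻¹ = v := by rw [← h1]; group
    rw [h2, Pi.one_apply, ap_one]
  · rw [mem_bot] at hd
    rw [hd]
    group

theorem cent_of_acts {g : G} (hg : g ∈ P) (hA : ActsSL M.e V ⊥ g 1) :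
    g ∈ centralizer (V : Set G) := by
  rw [mem_centralizer_iff]
  intro v hv
  have h1 := acts_eq hg (one_mem P) hA (NV.acts_one M) hv
  have h2 : g * v * g⁻¹ = v := by rw [h1]; group
  calc v * g = (g * v * g⁻¹) * g := by rw [h2]
    _ = g * v := by group

/-- an element of 2-power order of `S` acting as an element of `SL₂(F)^k` is unipotent -/
theorem exists_up [CharP F 2] (hSP : S ≤ P) (hS : IsPGroup 2 S) {s : G} (hs : s ∈ S)
    {A : Fin k → Matrix.SpecialLinearGroup (Fin 2) F} (hA : ActsSL M.e V ⊥ s A) :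
    ∀ i, A i = up (ent (A i) 0 1) := by
  intro i
  have hsg : NV.sg M (hSP hs) i = i := by
    rw [← NV.mem_normalizer_fac_iff]
    exact NV.grp_normalizes M Set.univ {i} ⟨hSP hs, A, hA, fun j hj => absurd (Set.mem_univ j) hj⟩
  obtain ⟨v, hv, hve⟩ := NV.exists_fac M i ![1, 0]
  have h10 : ent (A i) 1 0 = 0 := by
    have h1 := (NV.e_conj_line M hSP hs hv.1 i).2 (by rw [hve]; rfl)
    rw [hsg, hA.1 v hv.1 i, hve, NatPair.ap_one'] at h1
    simpa using h1
  have hap : ∀ j : ℕ, ap ((A i) ^ j) ![1, 0] = ![(ent (A i) 0 0) ^ j, 0] := by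
    intro j
    induction j with
    | zero => rw [pow_zero, pow_zero, ap_one]
    | succ j ih =>
      have h2 : ap (A i) ![1, 0] = ent (A i) 0 0 • ![1, 0] := by
        apply NatPair.ext2
        · rw [NatPair.ap_zero']; simp
        · rw [NatPair.ap_one', h10]; simp
      rw [pow_succ, ap_mul, h2, ap_smul, ih]
      apply NatPair.ext2
      · simp [pow_succ, mul_comm]
      · simp
  obtain ⟨n, hn⟩ := hS ⟨s, hs⟩
  have hn' : s ^ 2 ^ n = 1 := congrArg Subtype.val hn
  have h3 := acts_pow (hSP hs) hA (2 ^ n)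
  rw [hn'] at h3
  have h4 := acts_unique h3 (NV.acts_one M)
  have h5 := congrFun h4 i
  have h6 := hap (2 ^ n)
  rw [Pi.pow_apply, Pi.one_apply] at h5
  rw [h5, ap_one] at h6
  have h7 : (ent (A i) 0 0) ^ 2 ^ n = 1 := (congrFun h6 0).symm
  have h00 := eq_one_of_pow h7
  have h11 : ent (A i) 1 1 = 1 := by
    have h8 := det_eq (A i)
    rw [h00, h10] at h8
    simpa using h8
  apply ext_ent
  · rw [h00, up_00]
  · rw [up_01]
  · rw [h10, up_10]
  · rw [h11, up_11]

/-- elements acting as `up b` centralise the lines -/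
theorem comm_lines {g : G} (hg : g ∈ P) {b : Fin k → F} (hA : ActsSL M.e V ⊥ g fun i => up (b i)) {v : G}
    (hv : v ∈ NV.lines M Set.univ) : g * v * g⁻¹ = v := by
  refine NV.e_inj M (NV.cj_mem M hg hv.1.1) hv.1.1 (funext fun i => ?_)
  rw [hA.1 v hv.1.1 i]
  apply NatPair.ext2
  · rw [NatPair.ap_zero', up_00, up_01, hv.2 i]; ring
  · rw [NatPair.ap_one', up_10, up_11, hv.2 i]; ring

end basic

section main

variable {G : Type u} [Group G] [Finite G] {F : Type} [Field F] [Finite F] [CharP F 2] {S : Sylow 2 G}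
  {P V D : Subgroup G} {k : ℕ} (M : NatD F S P V D k)

/-- `S^L`: the elements of `S` acting as elements of `SL₂(F)^k` -/
def LS : Subgroup G := (S : Subgroup G) ⊓ NV.grp M.toNatV Set.univ

variable {M}

theorem LS_le : LS M ≤ S := inf_le_left

theorem grp_univ_normal : P ≤ normalizer (NV.grp M.toNatV Set.univ : Set G) := by
  intro g hg
  apply NV.normalizer_grp M.toNatV hg
  rw [NV.part_univ]
  exact M.nV hg

theorem S_le_normalizer_LS : (S : Subgroup G) ≤ normalizer (LS M : Set G) := by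
  have h1 : (S : Subgroup G) ≤ normalizer ((S : Subgroup G) : Set G) := le_normalizer
  have h2 : (S : Subgroup G) ≤ normalizer (NV.grp M.toNatV Set.univ : Set G) := (NV.SP M).trans grp_univ_normal
  intro s hs
  rw [mem_normalizer_iff_cj]
  rw [LS, cj_inf, cj_eq_of_mem_normalizer (h1 hs), cj_eq_of_mem_normalizer (h2 hs)]

theorem exists_b {s : G} (hs : s ∈ LS M) :
    ∃ b : Fin k → F, ActsSL M.e V ⊥ s fun i => up (b i) := by
  obtain ⟨hsS, hsP, A, hA, -⟩ := hs
  refine ⟨fun i => ent (A i) 0 1, ?_⟩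
  have h1 : A = fun i => up (ent (A i) 0 1) :=
    funext fun i => exists_up (M := M.toNatV) (NV.SP M) S.isPGroup' hsS hA i
  rwa [← h1]

theorem mem_LS {s : G} (hs : s ∈ (S : Subgroup G))
    {A : Fin k → Matrix.SpecialLinearGroup (Fin 2) F}
    (hA : ActsSL M.e V ⊥ s A) : s ∈ LS M :=
  ⟨hs, NV.SP M hs, A, hA, fun i hi => absurd (Set.mem_univ i) hi⟩

theorem mem_LS_of_cent {s : G} (hs : s ∈ (S : Subgroup G))
    (hc : s ∈ centralizer (V : Set G)) : s ∈ LS M :=
  mem_LS hs (acts_of_cent (M := M.toNatV) hc)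

/-- `LS` is a maximal 2-subgroup of `grp M univ` -/
theorem LS_max {R : Subgroup G} (hR : IsPGroup 2 R) (h1 : LS M ≤ R)
    (h2 : R ≤ NV.grp M.toNatV Set.univ) : R = LS M := by
  obtain ⟨g, hg, hgS⟩ := Half.SymA.exists_conj_le S (NV.SP M) hR (h2.trans (NV.grp_le M.toNatV _))
  have h3 : cj g R ≤ LS M := by
    intro x hx
    have hx' := mem_cj.1 hx
    have h4 : x = g * (g⁻¹ * x * g) * g⁻¹ := by group
    refine ⟨?_, ?_⟩
    · rw [h4]
      exact hgS _ hx'
    · rw [h4]
      exact (mem_normalizer_iff.1 (grp_univ_normal hg) _).1 (h2 hx')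
  symm
  refine eq_of_le_of_card_ge h1 ?_
  calc Nat.card R = Nat.card (cj g R) := (card_cj g R).symm
    _ ≤ Nat.card (LS M) := Nat.card_le_card_of_injective _ (inclusion_injective h3)

theorem LS_isPGroup : IsPGroup 2 (LS M) := S.isPGroup'.to_le LS_le

/-! ### The ambient facts -/

include M in
/-- `C_P(V)` centralises `V_P` -/
theorem cent_zl {x : G} (hxP : x ∈ P) (hxV : x ∈ centralizer (V : Set G)) :
    x ∈ centralizer (zl (S : Subgroup G) P : Set G) := by
  rw [mem_centralizer_iff]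
  intro v hv
  obtain ⟨n, hn, d, hd, rfl⟩ := M.dec v hv
  have h1 := mem_centralizer_iff.1 hxV n hn
  have h2 := mem_centralizer_iff.1 (M.cD hxP) d hd
  calc n * d * x = n * (d * x) := by group
    _ = (n * x) * d := by rw [h2]; group
    _ = x * (n * d) := by rw [h1]; group

theorem V_le_LS : V ≤ LS M := by
  intro v hv
  refine mem_LS_of_cent (NV.V_le_S M hv) ?_
  rw [mem_centralizer_iff]
  intro w hw
  exact NV.comm M.toNatV hw hv

theorem D_le_LS : D ≤ LS M := by
  intro d hd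
  have hdz : d ∈ zl (S : Subgroup G) P := M.D_le hd
  have h1 : d ∈ (S : Subgroup G) := (NV.zl_le_zz M).trans ((zc_le _).trans (NV.o2_le_S M)) hdz
  refine mem_LS_of_cent h1 ?_
  rw [mem_centralizer_iff]
  intro w hw
  exact (mem_centralizer_iff.1 (M.cD (NV.SP M (NV.V_le_S M hw))) d hd).symm

theorem D_le_zc : D ≤ zc (LS M) := by
  intro d hd
  rw [mem_zc]
  refine ⟨D_le_LS hd, fun s hs => ?_, ?_⟩
  · exact (mem_centralizer_iff.1 (M.cD (NV.SP M hs.1)) d hd).symm
  · exact (mem_zc.1 (NV.zl_le_zz M (M.D_le hd))).2.2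

theorem o2_le_LS : o2 P ≤ LS M := by
  intro x hx
  refine mem_LS_of_cent (NV.o2_le_S M hx) ?_
  rw [mem_centralizer_iff]
  intro v hv
  exact ((mem_zc.1 (NV.V_le_zz M hv)).2.1 x hx).symm

include M in
/-- `C_G(O₂(P)) ≤ O₂(P)` -/
theorem cent_o2 : centralizer (o2 P : Set G) ≤ o2 P :=
  ThmC.FourOf.cent_o2 M.hG M.star

theorem cent_LS : centralizer (LS M : Set G) ≤ LS M :=
  (centralizer_le o2_le_LS).trans ((cent_o2 (M := M)).trans o2_le_LS)

theorem lines_le_zc : NV.lines M.toNatV Set.univ ≤ zc (LS M) := by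
  intro v hv
  rw [mem_zc]
  refine ⟨V_le_LS hv.1.1, fun s hs => ?_, ?_⟩
  · obtain ⟨b, hb⟩ := exists_b hs
    have := comm_lines (M := M.toNatV) (NV.SP M hs.1) hb hv
    calc s * v = (s * v * s⁻¹) * s := by group
      _ = v * s := by rw [this]
  · exact (mem_zc.1 (NV.V_le_zz M hv.1.1)).2.2

/-- `Ω₁ Z(S) ≤ (sum of the lines) × D` -/
theorem zc_S_le {z : G} (hz : z ∈ zc (S : Subgroup G)) : ∃ v ∈ NV.lines M.toNatV Set.univ, ∃ d ∈ D, z = v * d := by
  obtain ⟨v, hv, d, hd, rfl⟩ := M.dec z (zc_le_zl _ P hz)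
  refine ⟨v, ?_, d, hd, rfl⟩
  have hvS : ∀ s ∈ (S : Subgroup G), s * v = v * s := by
    intro s hs
    have h1 := (mem_zc.1 hz).2.1 s hs
    have h2 := mem_centralizer_iff.1 (M.cD (NV.SP M hs)) d hd
    have h3 : s * v * d = v * s * d := by
      calc s * v * d = s * (v * d) := by group
        _ = v * (d * s) := by rw [h1]; group
        _ = v * s * d := by rw [h2]; group
    exact mul_right_cancel h3
  refine ⟨⟨hv, fun i hi => absurd (Set.mem_univ i) hi⟩, fun i => ?_⟩
  classical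
  obtain ⟨t, ht, hact⟩ := M.unip (Function.update 0 i 1)
  have h2 : t * v * t⁻¹ = v := by rw [hvS t ht]; group
  have h3 := congrFun (hact.1 v hv i) 0
  rw [h2, NatPair.ap_zero'] at h3
  simp only [Function.update_self, up_00, up_01, one_mul] at h3
  exact left_eq_add.1 h3

/-- `C_P(V) ∩ N(S^L)` centralises `E = Ω₁ Z(S^L)` -/
theorem cent_E : P ⊓ centralizer (V : Set G) ⊓ normalizer (LS M : Set G) ≤
    centralizer (zc (LS M) : Set G) := by
  have hnor : normalizer (LS M : Set G) ≤ normalizer (zc (LS M) : Set G) :=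
    MinSimple.VModule.normalizer_le_normalizer_zc _
  refine le_centralizer_of_fixed (S := (S : Subgroup G)) (MinSimple.VModule.zc_comm _) (MinSimple.VModule.zc_sq _)
    (inf_le_right.trans hnor) ?_ S.isPGroup' (S_le_normalizer_LS.trans hnor) ?_ ?_
  · -- 2-elements
    rintro x ⟨⟨hxP, hxV⟩, hxN⟩ n hn a ha
    have hx2 : IsPGroup 2 (zpowers x) := by
      rintro ⟨y, j, rfl⟩
      refine ⟨n, Subtype.ext ?_⟩
      change (x ^ j) ^ 2 ^ n = 1
      rw [← zpow_natCast, ← zpow_mul, mul_comm j, zpow_mul, zpow_natCast, hn, one_zpow]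
    have hR : IsPGroup 2 (LS M ⊔ zpowers x : Subgroup G) :=
      IsPGroup.to_sup_of_normal_left' LS_isPGroup hx2 (zpowers_le.2 hxN)
    have h1 := LS_max hR le_sup_left (sup_le inf_le_right (zpowers_le.2
      ⟨hxP, 1, acts_of_cent (M := M.toNatV) hxV, fun _ _ => rfl⟩))
    have h2 : x ∈ LS M := by
      rw [← h1]
      exact (le_sup_right : zpowers x ≤ _) (mem_zpowers x)
    exact (mem_zc.1 ha).2.1 x h2
  · -- `S` normalises the group
    have h1 : (S : Subgroup G) ≤ normalizer (P : Set G) := (NV.SP M).trans le_normalizer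
    have h2 : (S : Subgroup G) ≤ normalizer (centralizer (V : Set G) : Set G) := by
      have h3 : (S : Subgroup G) ≤ normalizer (V : Set G) := (NV.SP M).trans M.nV
      intro s hs
      rw [mem_normalizer_iff_cj, cj_centralizer, cj_eq_of_mem_normalizer (h3 hs)]
    have h3 : (S : Subgroup G) ≤ normalizer (normalizer (LS M : Set G) : Set G) := by
      intro s hs
      rw [mem_normalizer_iff_cj, cj_normalizer, cj_eq_of_mem_normalizer (S_le_normalizer_LS hs)]
    intro s hs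
    rw [mem_normalizer_iff_cj, cj_inf, cj_inf, cj_eq_of_mem_normalizer (h1 hs), cj_eq_of_mem_normalizer (h2 hs),
      cj_eq_of_mem_normalizer (h3 hs)]
  · -- fixed points
    rintro a ha hfix x ⟨⟨hxP, hxV⟩, -⟩
    have h1 : a ∈ zc (S : Subgroup G) := by
      rw [mem_zc]
      exact ⟨LS_le (zc_le _ ha), hfix, (mem_zc.1 ha).2.2⟩
    exact (mem_centralizer_iff.1 (cent_zl (M := M) hxP hxV) a (zc_le_zl _ P h1)).symm

/-- elements of `P ∩ N(S^L)` with the same action on `V` have the same action on `E` -/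
theorem act_of_eq {x y : G} (hx : x ∈ P) (hxN : x ∈ normalizer (LS M : Set G)) (hy : y ∈ P)
    (hyN : y ∈ normalizer (LS M : Set G)) {A : Fin k → Matrix.SpecialLinearGroup (Fin 2) F}
    (hA : ActsSL M.e V ⊥ x A) (hB : ActsSL M.e V ⊥ y A) :
    Act (zc (LS M)) x y := by
  have h1 : y⁻¹ * x ∈ centralizer (zc (LS M) : Set G) := by
    have h0 : y⁻¹ * x ∈ P := mul_mem (inv_mem hy) hx
    have h0' : y⁻¹ * x ∈ normalizer (LS M : Set G) := mul_mem (inv_mem hyN) hxN
    refine cent_E (M := M) ⟨⟨h0, cent_of_acts (M := M.toNatV) h0 ?_⟩, h0'⟩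
    have := NV.acts_mul (M := M.toNatV) hx (NV.acts_inv (M := M.toNatV) hy hB) hA
    rwa [inv_mul_cancel] at this
  intro e he
  have h2 := mem_centralizer_iff.1 h1 e he
  calc x * e * x⁻¹ = y * ((y⁻¹ * x) * e) * x⁻¹ := by group
    _ = y * (e * (y⁻¹ * x)) * x⁻¹ := by rw [h2]
    _ = y * e * y⁻¹ := by group

/-- the elements of `P` acting as unitriangular elements -/
def uni (M : NatD F S P V D k) : Subgroup G where
  carrier := {g | g ∈ P ∧ ∃ b : Fin k → F, ActsSL M.e V ⊥ g fun i => up (b i)}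
  one_mem' := ⟨one_mem P, 0, by
    have : (fun i => up ((0 : Fin k → F) i)) = (1 : Fin k → Matrix.SpecialLinearGroup (Fin 2) F) :=
      funext fun i => up_zero
    rw [this]
    exact NV.acts_one M.toNatV⟩
  mul_mem' := by
    rintro g h ⟨hg, b, hb⟩ ⟨hh, c, hc⟩
    refine ⟨mul_mem hg hh, b + c, ?_⟩
    have h1 := NV.acts_mul (M := M.toNatV) hh hb hc
    have : ((fun i => up (b i)) * fun i => up (c i)) = fun i => up ((b + c) i) :=
      funext fun i => up_mul _ _
    rwa [this] at h1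
  inv_mem' := by
    rintro g ⟨hg, b, hb⟩
    refine ⟨inv_mem hg, -b, ?_⟩
    have h1 := NV.acts_inv (M := M.toNatV) hg hb
    have : (fun i => up (b i))⁻¹ = fun i => up ((-b) i) := funext fun i => up_inv _
    rwa [this] at h1

/-- every upper triangular element of `SL₂(F)^k` is induced by an element of `P ∩ N(S^L)` -/
theorem exists_norm (A : Fin k → Matrix.SpecialLinearGroup (Fin 2) F) (hA : ∀ i, ent (A i) 1 0 = 0) :
    ∃ h ∈ P, h ∈ normalizer (LS M : Set G) ∧ ActsSL M.e V ⊥ h A := by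
  obtain ⟨g, hg, hgA⟩ := M.lift A
  have hLU : LS M ≤ uni M := fun s hs => ⟨NV.SP M hs.1, exists_b hs⟩
  have hL'U : cj g (LS M) ≤ uni M := by
    intro x hx
    rw [mem_cj] at hx
    obtain ⟨b, hb⟩ := exists_b hx
    have h1 := NV.acts_mul (M := M.toNatV) (inv_mem hg) (NV.acts_mul (M := M.toNatV) (NV.SP M hx.1) hgA hb)
      (NV.acts_inv (M := M.toNatV) hg hgA)
    have h2 : g * (g⁻¹ * x * g) * g⁻¹ = x := by group
    rw [h2] at h1
    refine ⟨?_, fun i => ent (A i) 0 0 ^ 2 * b i, ?_⟩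
    · rw [← h2]
      exact mul_mem (mul_mem hg (NV.SP M hx.1)) (inv_mem hg)
    · have h3 : A * (fun i => up (b i)) * A⁻¹ = fun i => up (ent (A i) 0 0 ^ 2 * b i) :=
        funext fun i => tri_up (hA i) (b i)
      rwa [h3] at h1
  have hmax : ∀ R : Subgroup G, IsPGroup 2 R → LS M ≤ R → R ≤ uni M → R = LS M := by
    intro R hR h1 h2
    refine LS_max hR h1 fun x hx => ?_
    obtain ⟨h3, b, hb⟩ := h2 hx
    exact ⟨h3, _, hb, fun i hi => absurd (Set.mem_univ i) hi⟩
  obtain ⟨c, ⟨hcP, b, hcb⟩, hcc⟩ := conj_sylow hLU hL'U LS_isPGroup (isPGroup_cj g LS_isPGroup) hmax (card_cj g _)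
  obtain ⟨t, ht, htb⟩ := M.unip b
  have htP := NV.SP M ht
  have htL : t ∈ LS M := mem_LS ht htb
  refine ⟨t⁻¹ * c * g, mul_mem (mul_mem (inv_mem htP) hcP) hg, ?_, ?_⟩
  · rw [mem_normalizer_iff_cj, ← cj_cj, ← cj_cj, hcc]
    exact cj_eq_of_mem_normalizer (inv_mem (le_normalizer htL))
  · have h1 := NV.acts_mul (M := M.toNatV) hg (NV.acts_mul (M := M.toNatV) hcP
      (NV.acts_inv (M := M.toNatV) htP htb) hcb) hgA
    rwa [inv_mul_cancel, one_mul] at h1

/-- `C_V(S^L)` is the sum of the lines -/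
theorem mem_lines_of_cent {v : G} (hv : v ∈ V) (h : ∀ s ∈ LS M, s * v = v * s) :
    v ∈ NV.lines M.toNatV Set.univ := by
  classical
  refine ⟨⟨hv, fun i hi => absurd (Set.mem_univ i) hi⟩, fun i => ?_⟩
  obtain ⟨t, ht, hact⟩ := M.unip (Function.update 0 i 1)
  have h1 := h t (mem_LS ht hact)
  have h2 : t * v * t⁻¹ = v := by rw [h1]; group
  have h3 := congrFun (hact.1 v hv i) 0
  rw [h2, NatPair.ap_zero'] at h3
  simp only [Function.update_self, up_00, up_01, one_mul] at h3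
  exact left_eq_add.1 h3

/-- elements of `P ∩ N(S^L)` normalise the sum of the lines -/
theorem norm_lines {x : G} (hx : x ∈ P) (hxN : x ∈ normalizer (LS M : Set G)) {v : G}
    (hv : v ∈ NV.lines M.toNatV Set.univ) : x * v * x⁻¹ ∈ NV.lines M.toNatV Set.univ := by
  refine mem_lines_of_cent (NV.cj_mem M.toNatV hx hv.1.1) fun s hs => ?_
  have h1 : x⁻¹ * s * x ∈ LS M := by
    have := (mem_normalizer_iff.1 (inv_mem hxN) s).1 hs
    rwa [inv_inv] at this
  have h2 := (mem_zc.1 (lines_le_zc hv)).2.1 _ h1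
  calc s * (x * v * x⁻¹) = x * ((x⁻¹ * s * x) * v) * x⁻¹ := by group
    _ = x * (v * (x⁻¹ * s * x)) * x⁻¹ := by rw [h2]
    _ = x * v * x⁻¹ * s := by group

/-- an element of `P ∩ N(S^L)` acting as `B` is upper triangular -/
theorem tri_of_norm {x : G} (hx : x ∈ P) (hxN : x ∈ normalizer (LS M : Set G))
    {B : Fin k → Matrix.SpecialLinearGroup (Fin 2) F} (hB : ActsSL M.e V ⊥ x B) (i : Fin k) :
    ent (B i) 1 0 = 0 := by
  obtain ⟨v, hv, hve⟩ := NV.exists_fac M.toNatV i ![1, 0]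
  have h1 : v ∈ NV.lines M.toNatV Set.univ := by
    refine ⟨⟨hv.1, fun j hj => absurd (Set.mem_univ j) hj⟩, fun j => ?_⟩
    by_cases hj : j = i
    · rw [hj, hve]; rfl
    · rw [hv.2 j hj]; rfl
  have h2 := (norm_lines hx hxN h1).2 i
  rw [hB.1 v hv.1 i, hve, NatPair.ap_one'] at h2
  simpa using h2

end main

end Cfsg.Agent.Omega.IId.ThmCQ.Sp
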